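import Cfsg.Agent.Lib.SylowNumbers17.Rigid

/-!
# Counting in rigid groups on 18 points

The number of fixed-point-free elements, and, when all permutations are even and the pair stabilisers
have order 8, the fact that all of them have order dividing 9.
-/

set_option autoImplicit false
set_option linter.dupNamespace false

open Finset

namespace Cfsg.Agent.Lib.SylowNumbers17.Count

open Rigid

universe u v

theorem double_count {A B : Type*} [Fintype A] [Fintype B] (R : A → B → Prop) [∀ a b, Decidable (R a b)] :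
    ∑ a : A, (univ.filter fun b => R a b).card = ∑ b : B, (univ.filter fun a => R a b).card := by
  simp only [Finset.card_filter]
  exact Finset.sum_comm

variable {X : Type u} {Ω : Type v} [Group X] [Finite X] [MulAction X Ω]

theorem stab_card (H : Rigid X Ω) (a : Ω) :
    18 * Nat.card (MulAction.stabilizer X a) = Nat.card X := by
  have := H.trans
  rw [← H.card18, ← MulAction.index_stabilizer_of_transitive X a, mul_comm,
    Subgroup.card_mul_index]

theorem pair_card (H : Rigid X Ω) {a b : Ω} (hab : a ≠ b) :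
    306 * Nat.card (pairStab X a b) = Nat.card X := by
  have := H.finiteΩ
  obtain ⟨p, hp, hpa, -⟩ := H.rigid a
  set A := MulAction.stabilizer X a with hA
  have horb : MulAction.orbit A b = ({a} : Set Ω)ᶜ := by
    ext x
    constructor
    · rintro ⟨⟨g, hg⟩, rfl⟩ (h : g • b = a)
      exact hab (MulAction.injective g ((show g • a = a from hg).trans h.symm))
    · intro hx
      obtain ⟨i, hi⟩ := H.cycle hp hpa hab.symm hx
      exact ⟨⟨p ^ i, A.zpow_mem (MulAction.mem_stabilizer_iff.2 hpa) i⟩, hi⟩
  have h1 : (MulAction.stabilizer A b).index = 17 := by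
    rw [MulAction.index_stabilizer, horb, Set.ncard_compl ({a} : Set Ω), Set.ncard_singleton, H.card18]
  have h2 : Nat.card (MulAction.stabilizer A b) = Nat.card (pairStab X a b) :=
    Nat.card_congr ⟨fun g => ⟨g.1.1, g.1.2, g.2⟩, fun g => ⟨⟨g.1, g.2.1⟩, g.2.2⟩,
      fun _ => rfl, fun _ => rfl⟩
  have h3 := Subgroup.card_mul_index (MulAction.stabilizer A b)
  rw [h1, h2] at h3
  rw [← stab_card H a, ← hA, ← h3]
  ring

variable [Fintype X] [Fintype Ω] [DecidableEq Ω]

/-- The fixed points of an element. -/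
abbrev fixPts (g : X) : Finset Ω := univ.filter fun a => g • a = a

/-- The ordered pairs of distinct points. -/
abbrev pairs (Ω : Type v) [Fintype Ω] [DecidableEq Ω] : Finset (Ω × Ω) := (univ : Finset Ω).offDiag

theorem card_univΩ (H : Rigid X Ω) : (univ : Finset Ω).card = 18 := by
  rw [Finset.card_univ, ← Nat.card_eq_fintype_card, H.card18]

theorem card_pairs (H : Rigid X Ω) : (pairs Ω).card = 306 := by
  rw [Finset.offDiag_card, card_univΩ H]

theorem fix_le_two (H : Rigid X Ω) {g : X} (hg : g ≠ 1) : (fixPts (Ω := Ω) g).card ≤ 2 := by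
  by_contra h
  obtain ⟨a, ha, b, hb, c, hc, hab, hac, hbc⟩ := Finset.two_lt_card.1 (by omega :
    2 < (fixPts (Ω := Ω) g).card)
  simp only [Finset.mem_filter, mem_univ, true_and] at ha hb hc
  exact hg (H.three hab hac hbc ha hb hc)

theorem sum_fix (H : Rigid X Ω) : ∑ g : X, (fixPts (Ω := Ω) g).card = Nat.card X := by
  classical
  rw [double_count (fun (g : X) (a : Ω) => g • a = a)]
  obtain ⟨a₀⟩ : Nonempty Ω := (Nat.card_pos_iff.1 (by rw [H.card18]; norm_num)).1
  rw [Finset.sum_eq_card_nsmul (b := Nat.card (MulAction.stabilizer X a₀)), card_univΩ H, smul_eq_mul,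
    stab_card H a₀]
  intro a _
  have h1 := stab_card H a
  have h2 := stab_card H a₀
  have h3 : Nat.card (MulAction.stabilizer X a) = (univ.filter fun g : X => g • a = a).card := by
    rw [Nat.card_eq_fintype_card, ← Fintype.card_subtype]
    exact Fintype.card_congr (Equiv.subtypeEquivRight fun g => Iff.rfl)
  omega

theorem offDiag_fix (g : X) : (fixPts (Ω := Ω) g).offDiag =
    (pairs Ω).filter fun q => g • q.1 = q.1 ∧ g • q.2 = q.2 := by
  ext ⟨a, b⟩
  simp only [Finset.mem_offDiag, Finset.mem_filter, mem_univ, true_and]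
  tauto

theorem sum_pairs (H : Rigid X Ω) :
    ∑ g : X, (fixPts (Ω := Ω) g).offDiag.card = Nat.card X := by
  classical
  simp only [offDiag_fix, Finset.card_filter]
  rw [Finset.sum_comm]
  obtain ⟨q₀, hq₀⟩ := Finset.card_pos.1 (by rw [card_pairs H]; norm_num : 0 < (pairs Ω).card)
  have hne : ∀ q ∈ pairs Ω, q.1 ≠ q.2 := fun q hq => (Finset.mem_offDiag.1 hq).2.2
  rw [Finset.sum_eq_card_nsmul (b := Nat.card (pairStab X q₀.1 q₀.2)), card_pairs H, smul_eq_mul,
    pair_card H (hne q₀ hq₀)]
  intro q hq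
  rw [← Finset.card_filter, ← Fintype.card_subtype]
  have h1 := pair_card H (hne q hq)
  have h2 := pair_card H (hne q₀ hq₀)
  have h3 : Nat.card (pairStab X q.1 q.2) =
      Fintype.card {g : X // g • q.1 = q.1 ∧ g • q.2 = q.2} := by
    rw [Nat.card_eq_fintype_card]
    exact Fintype.card_congr (Equiv.subtypeEquivRight fun g => Iff.rfl)
  omega

/-- The number of fixed-point-free elements. -/
theorem card_fpf (H : Rigid X Ω) :
    2 * (univ.filter fun g : X => ∀ a : Ω, g • a ≠ a).card + 272 = Nat.card X := by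
  classical
  have key : ∀ g : X, 2 * (if ∀ a : Ω, g • a ≠ a then 1 else 0) + 2 * (fixPts (Ω := Ω) g).card +
      (if g = 1 then 272 else 0) = 2 + (fixPts (Ω := Ω) g).offDiag.card := by
    intro g
    rw [Finset.offDiag_card]
    by_cases hg : g = 1
    · subst hg
      have h18 : fixPts (Ω := Ω) (1 : X) = univ :=
        Finset.filter_true_of_mem fun a _ => one_smul X a
      rw [h18, card_univΩ H, if_pos rfl, if_neg]
      obtain ⟨a₀⟩ : Nonempty Ω := (Nat.card_pos_iff.1 (by rw [H.card18]; norm_num)).1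
      exact fun h => h a₀ (one_smul X a₀)
    rw [if_neg hg]
    have h2 := fix_le_two H hg
    by_cases hf : ∀ a : Ω, g • a ≠ a
    · have h0 : (fixPts (Ω := Ω) g).card = 0 :=
        Finset.card_eq_zero.2 (Finset.filter_false_of_mem fun a _ => hf a)
      rw [if_pos hf, h0]
    · rw [if_neg hf]
      push Not at hf
      obtain ⟨a, ha⟩ := hf
      have h1 : 0 < (fixPts (Ω := Ω) g).card :=
        Finset.card_pos.2 ⟨a, Finset.mem_filter.2 ⟨mem_univ a, ha⟩⟩
      interval_cases (fixPts (Ω := Ω) g).card <;> omega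
  have h := Finset.sum_congr (rfl : (univ : Finset X) = univ) fun g _ => key g
  simp only [Finset.sum_add_distrib, ← Finset.mul_sum, sum_fix H, sum_pairs H,
    Finset.sum_ite_eq', mem_univ, if_true, Finset.sum_const, smul_eq_mul] at h
  rw [← Finset.card_filter, Finset.card_univ, ← Nat.card_eq_fintype_card] at h
  omega

/-- An even involution fixes exactly two points. -/
theorem invol_fix (H : Rigid X Ω) (heven : ∀ g : X, Equiv.Perm.sign (MulAction.toPermHom X Ω g) = 1)
    {u : X} (hu : orderOf u = 2) : (fixPts (Ω := Ω) u).card = 2 := by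
  set σ := MulAction.toPermHom X Ω u with hσ
  have hinj : Function.Injective (MulAction.toPermHom X Ω) := fun g h e =>
    H.faithful.eq_of_smul_eq_smul fun x => by
      simpa using congrArg (fun π : Equiv.Perm Ω => π x) e
  have ho : orderOf σ = 2 := by rw [hσ, orderOf_injective _ hinj, hu]
  obtain ⟨n, hn⟩ := Equiv.Perm.cycleType_prime_order (σ := σ) (by rw [ho]; exact Nat.prime_two)
  rw [ho] at hn
  have hsum := Equiv.Perm.sum_cycleType σ
  rw [hn, Multiset.sum_replicate, smul_eq_mul] at hsum
  have hs := heven u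
  rw [← hσ, Equiv.Perm.sign_of_cycleType, hn, Multiset.sum_replicate, Multiset.card_replicate,
    smul_eq_mul] at hs
  have hev : Even ((n + 1) * 2 + (n + 1)) := by
    by_contra hodd
    rw [(Nat.not_even_iff_odd.1 hodd).neg_one_pow] at hs
    exact absurd hs (by decide)
  have hfix : fixPts (Ω := Ω) u = σ.supportᶜ := by
    ext a
    simp [hσ]
  have h2 := fix_le_two H (show u ≠ 1 from fun h => by simp [h] at hu)
  rw [hfix, Finset.card_compl, ← hsum, ← Nat.card_eq_fintype_card, H.card18] at h2 ⊢
  have hle : (n + 1) * 2 ≤ 18 := by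
    rw [hsum, ← card_univΩ H]
    exact Finset.card_le_univ _
  obtain ⟨k, hk⟩ := hev
  omega

/-- With even permutations and pair stabilisers of order 8, fixed-point-free elements have order
dividing 9. -/
theorem fpf_pow_nine (H : Rigid X Ω) (heven : ∀ g : X, Equiv.Perm.sign (MulAction.toPermHom X Ω g) = 1)
    (he : ∀ a b : Ω, a ≠ b → Nat.card (pairStab X a b) = 8) {y : X} (hy : ∀ a : Ω, y • a ≠ a) :
    y ^ 9 = 1 := by
  classical
  set I := univ.filter fun u : X => orderOf u = 2 with hI
  have hmemI : ∀ u, u ∈ I ↔ orderOf u = 2 := fun u => by simp [hI]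
  have hne : ∀ q ∈ pairs Ω, q.1 ≠ q.2 := fun q hq => (Finset.mem_offDiag.1 hq).2.2
  -- the number of involutions
  have hI153 : I.card = 153 := by
    have h1 : ∑ u ∈ I, (fixPts (Ω := Ω) u).offDiag.card = I.card • 2 := by
      refine Finset.sum_eq_card_nsmul fun u hu => ?_
      rw [Finset.offDiag_card, invol_fix H heven ((hmemI u).1 hu)]
    simp only [offDiag_fix, Finset.card_filter] at h1
    rw [Finset.sum_comm] at h1
    have h2 : ∀ q ∈ pairs Ω,
        (∑ u ∈ I, if u • q.1 = q.1 ∧ u • q.2 = q.2 then 1 else 0) = 1 := by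
      intro q hq
      rw [← Finset.card_filter]
      obtain ⟨hc, -⟩ := H.pairStab_cyclic (hne q hq)
      have := Fintype.ofFinite (pairStab X q.1 q.2)
      have ht := IsCyclic.card_orderOf_eq_totient (α := pairStab X q.1 q.2) (d := 2)
        (by rw [← Nat.card_eq_fintype_card, he _ _ (hne q hq)]; norm_num)
      rw [Nat.totient_two] at ht
      refine Eq.trans ?_ ht
      refine Eq.symm (Finset.card_bij (fun g _ => (g : X)) ?_ ?_ ?_)
      · intro g hg
        simp only [Finset.mem_filter, mem_univ, true_and] at hg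
        exact Finset.mem_filter.2 ⟨(hmemI _).2 (by rw [Subgroup.orderOf_coe, hg]), g.2.1, g.2.2⟩
      · exact fun g _ g' _ h => Subtype.ext h
      · intro u hu
        obtain ⟨h0, h1', h2'⟩ := Finset.mem_filter.1 hu
        exact ⟨⟨u, h1', h2'⟩, Finset.mem_filter.2 ⟨mem_univ _, by
          rw [← Subgroup.orderOf_coe]; exact (hmemI u).1 h0⟩, rfl⟩
    rw [Finset.sum_eq_card_nsmul h2, card_pairs H, smul_eq_mul, smul_eq_mul] at h1
    omega
  -- swapping involutions
  have hswap : ∀ q ∈ pairs Ω, ((I.filter fun u => u • q.1 = q.2).card = 8) := by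
    have h1 : ∀ u ∈ I, ((pairs Ω).filter fun q => u • q.1 = q.2).card = 16 := by
      intro u hu
      have h2 : ((pairs Ω).filter fun q => u • q.1 = q.2) =
          ((fixPts (Ω := Ω) u)ᶜ).image fun a => (a, u • a) := by
        ext ⟨a, b⟩
        simp only [Finset.mem_filter, Finset.mem_offDiag, Finset.mem_image, Finset.mem_compl,
          mem_univ, true_and, Prod.mk.injEq]
        constructor
        · rintro ⟨h, rfl⟩
          exact ⟨a, fun e => h e.symm, rfl, rfl⟩
        · rintro ⟨c, hc, rfl, rfl⟩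
          exact ⟨fun e => hc e.symm, rfl⟩
      rw [h2, Finset.card_image_of_injective _ fun a a' h => (Prod.ext_iff.1 h).1, Finset.card_compl,
        invol_fix H heven ((hmemI u).1 hu), ← Nat.card_eq_fintype_card, H.card18]
    have h3 : ∑ q ∈ pairs Ω, (I.filter fun u => u • q.1 = q.2).card = 2448 := by
      simp only [Finset.card_filter]
      rw [Finset.sum_comm]
      simp only [← Finset.card_filter]
      rw [Finset.sum_eq_card_nsmul h1, hI153, smul_eq_mul]
    intro q hq
    have hconst : ∀ q' ∈ pairs Ω, (I.filter fun u => u • q'.1 = q'.2).card =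
        (I.filter fun u => u • q.1 = q.2).card := by
      intro q' hq'
      obtain ⟨g, hg1, hg2⟩ := H.two_trans (hne q' hq') (hne q hq)
      refine Finset.card_bij (fun u _ => g * u * g⁻¹) ?_ ?_ ?_
      · intro u hu
        obtain ⟨h0, h1'⟩ := Finset.mem_filter.1 hu
        refine Finset.mem_filter.2 ⟨(hmemI _).2 ?_, ?_⟩
        · rw [← (hmemI u).1 h0]
          simpa using MulEquiv.orderOf_eq (MulAut.conj g) u
        · rw [mul_smul, mul_smul, ← hg1, inv_smul_smul, h1', hg2]
      · intro u _ u' _ h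
        simpa using h
      · intro u hu
        obtain ⟨h0, h1'⟩ := Finset.mem_filter.1 hu
        refine ⟨g⁻¹ * u * g, Finset.mem_filter.2 ⟨(hmemI _).2 ?_, ?_⟩, by group⟩
        · rw [← (hmemI u).1 h0]
          simpa using MulEquiv.orderOf_eq (MulAut.conj g⁻¹) u
        · rw [mul_smul, mul_smul, hg1, h1', ← hg2, inv_smul_smul]
    rw [Finset.sum_eq_card_nsmul hconst, card_pairs H, smul_eq_mul] at h3
    omega
  have hall : ∀ a b : Ω, a ≠ b → ∀ g : X, g • a = b → g • b = a → orderOf g = 2 := by
    intro a b hab g hga hgb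
    have hq : (a, b) ∈ pairs Ω := Finset.mem_offDiag.2 ⟨mem_univ _, mem_univ _, hab⟩
    have hS : (univ.filter fun k : X => k • a = b ∧ k • b = a).card = 8 := by
      rw [← he a b hab, Nat.card_eq_fintype_card, ← Fintype.card_subtype]
      refine Fintype.card_congr ⟨fun k => ⟨g⁻¹ * k.1, ?_, ?_⟩, fun x => ⟨g * x.1, ?_, ?_⟩,
        fun k => Subtype.ext (by group), fun x => Subtype.ext (by group)⟩
      · show (g⁻¹ * k.1) • a = a
        rw [mul_smul, k.2.1, ← hga, inv_smul_smul]
      · show (g⁻¹ * k.1) • b = b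
        rw [mul_smul, k.2.2, ← hgb, inv_smul_smul]
      · rw [mul_smul, show (x : X) • a = a from x.2.1, hga]
      · rw [mul_smul, show (x : X) • b = b from x.2.2, hgb]
    have hsub : (I.filter fun u => u • a = b) ⊆ univ.filter fun k : X => k • a = b ∧ k • b = a := by
      intro u hu
      obtain ⟨h0, h1⟩ := Finset.mem_filter.1 hu
      refine Finset.mem_filter.2 ⟨mem_univ _, h1, ?_⟩
      have huu : u * u = 1 := by
        rw [← pow_two, ← (hmemI u).1 h0, pow_orderOf_eq_one]
      rw [← h1, smul_smul, huu, one_smul]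
    have heq := Finset.eq_of_subset_of_card_le hsub (by rw [hS, hswap _ hq])
    have hg : g ∈ univ.filter fun k : X => k • a = b ∧ k • b = a :=
      Finset.mem_filter.2 ⟨mem_univ _, hga, hgb⟩
    rw [← heq] at hg
    exact (hmemI g).1 (Finset.mem_filter.1 hg).1
  -- orders
  obtain ⟨a₀⟩ : Nonempty Ω := (Nat.card_pos_iff.1 (by rw [H.card18]; norm_num)).1
  obtain ⟨b₀, hb₀⟩ : ∃ b : Ω, a₀ ≠ b := ⟨y • a₀, fun h => hy a₀ h.symm⟩
  have hX : Nat.card X = 2 ^ 4 * 9 * 17 := by rw [← pair_card H hb₀, he _ _ hb₀]; norm_num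
  have hord : orderOf y ∣ 2 ^ 4 * 9 * 17 := hX ▸ orderOf_dvd_natCard y
  have h2 : ¬ 2 ∣ orderOf y := by
    intro h
    set z := y ^ (orderOf y / 2) with hz
    have hz2 : orderOf z = 2 := orderOf_pow_orderOf_div (orderOf_pos y).ne' h
    obtain ⟨a, b, hab, hfx⟩ := Finset.card_eq_two.1 (invol_fix H heven hz2)
    have hmem : ∀ x, z • x = x ↔ x = a ∨ x = b := fun x => by
      have := congrArg (fun s => x ∈ s) hfx
      simpa using this
    have hyz : ∀ x : Ω, z • x = x → z • (y • x) = y • x := fun x hx => by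
      rw [smul_smul, hz, (Commute.pow_self y _).eq, ← smul_smul, ← hz, hx]
    have hya : y • a = b :=
      ((hmem _).1 (hyz a ((hmem a).2 (Or.inl rfl)))).resolve_left (hy a)
    have hyb : y • b = a :=
      ((hmem _).1 (hyz b ((hmem b).2 (Or.inr rfl)))).resolve_right (hy b)
    obtain ⟨c, d, -, hcd⟩ := Finset.card_eq_two.1 (invol_fix H heven (hall a b hab y hya hyb))
    have hc : c ∈ fixPts (Ω := Ω) y := by rw [hcd]; simp
    exact hy c (Finset.mem_filter.1 hc).2
  have h17 : ¬ 17 ∣ orderOf y := by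
    intro h
    have : Fact (Nat.Prime 17) := ⟨by norm_num⟩
    set z := y ^ (orderOf y / 17) with hz
    have hz17 : orderOf z = 17 := orderOf_pow_orderOf_div (orderOf_pos y).ne' h
    have hP : IsPGroup 17 (Subgroup.zpowers z) :=
      IsPGroup.of_card (n := 1) (by rw [Nat.card_zpowers, hz17, pow_one])
    have hmod := hP.card_modEq_card_fixedPoints Ω
    rw [H.card18] at hmod
    have hpos : Nat.card (MulAction.fixedPoints (Subgroup.zpowers z) Ω) ≠ 0 := fun h0 => by
      rw [h0] at hmod
      exact absurd hmod (by decide)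
    obtain ⟨⟨a, ha⟩⟩ := (Nat.card_ne_zero.1 hpos).1
    have hza : z • a = a := ha ⟨z, Subgroup.mem_zpowers z⟩
    have hzy : z • (y • a) = y • a := by
      rw [smul_smul, hz, (Commute.pow_self y _).eq, ← smul_smul, ← hz, hza]
    have hdvd := Subgroup.orderOf_dvd_natCard (pairStab X a (y • a)) (x := z) ⟨hza, hzy⟩
    rw [hz17, he a (y • a) (hy a).symm] at hdvd
    norm_num at hdvd
  refine orderOf_dvd_iff_pow_eq_one.1 ?_
  have hc2 : (orderOf y).Coprime (2 ^ 4) :=
    ((Nat.prime_two.coprime_iff_not_dvd.2 h2).symm).pow_right 4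
  have hc17 : (orderOf y).Coprime 17 :=
    ((Nat.Prime.coprime_iff_not_dvd (by norm_num)).2 h17).symm
  exact hc2.dvd_of_dvd_mul_left (hc17.dvd_of_dvd_mul_right hord)

end Cfsg.Agent.Lib.SylowNumbers17.Count
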