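import Cfsg.Agent.Lib.SylowNumbers17.Count
import Cfsg.Agent.S0741

/-!
# Structure of rigid groups on 18 points

A rigid group is a Zassenhaus group, its pair stabilisers have order 8 or 16, its even part has order
2448, and it has at least 136 Sylow 3-subgroups and exactly 153 Sylow 2-subgroups.
-/

set_option autoImplicit false
set_option linter.dupNamespace false

open Finset

namespace Cfsg.Agent.Lib.SylowNumbers17.Facts

open Rigid Count

universe u v

variable {X : Type u} {Ω : Type v} [Group X] [MulAction X Ω]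

theorem toPerm_injective (H : Rigid X Ω) : Function.Injective (MulAction.toPermHom X Ω) :=
  fun g h e => H.faithful.eq_of_smul_eq_smul fun x => by
    simpa using congrArg (fun π : Equiv.Perm Ω => π x) e

theorem exists_third (H : Rigid X Ω) (a b : Ω) : ∃ c : Ω, c ≠ a ∧ c ≠ b := by
  have := H.finiteΩ
  by_contra h
  push Not at h
  have h1 : (Set.univ : Set Ω) ⊆ {a, b} := fun c _ => by
    rcases eq_or_ne c a with h' | h'
    · exact Or.inl h'
    · exact Or.inr (h c h')
  have h2 := (Set.ncard_le_ncard h1 (Set.toFinite _)).trans (Set.ncard_insert_le a {b})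
  rw [Set.ncard_univ, H.card18, Set.ncard_singleton] at h2
  omega

theorem exists_two (H : Rigid X Ω) : ∃ a b : Ω, a ≠ b := by
  obtain ⟨a⟩ : Nonempty Ω := (Nat.card_pos_iff.1 (by rw [H.card18]; norm_num)).1
  obtain ⟨b, hb, -⟩ := exists_third H a a
  exact ⟨a, b, hb.symm⟩

variable [Finite X]

theorem card_ne (H : Rigid X Ω) : Nat.card X ≠ 306 := by
  classical
  intro hX
  have := H.finiteΩ
  have := Fintype.ofFinite Ω
  have := Fintype.ofFinite X
  have : Fact (Nat.Prime 2) := ⟨Nat.prime_two⟩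
  have : Fact (Nat.Prime 3) := ⟨Nat.prime_three⟩
  set S := univ.filter fun g : X => ∀ a : Ω, g • a ≠ a with hS
  have hS17 : S.card = 17 := by
    have h : 2 * S.card + 272 = Nat.card X := by convert card_fpf H
    omega
  have hnot : ∀ g : X, (orderOf g = 2 ∨ orderOf g = 3) → g ∈ S := by
    intro g hg
    refine Finset.mem_filter.2 ⟨mem_univ _, fun a ha => ?_⟩
    have hdvd := Subgroup.orderOf_dvd_natCard (MulAction.stabilizer X a) (x := g) ha
    have h18 := stab_card H a
    rw [show Nat.card (MulAction.stabilizer X a) = 17 by omega] at hdvd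
    rcases hg with hg | hg <;> rw [hg] at hdvd <;> norm_num at hdvd
  obtain ⟨x, hx⟩ := exists_prime_orderOf_dvd_card' (G := X) 2 (by omega)
  obtain ⟨y, hy⟩ := exists_prime_orderOf_dvd_card' (G := X) 3 (by omega)
  obtain ⟨a⟩ : Nonempty Ω := (Nat.card_pos_iff.1 (by rw [H.card18]; norm_num)).1
  obtain ⟨p, hp, hpa, -⟩ := H.rigid a
  have hxa : x • a ≠ a := (Finset.mem_filter.1 (hnot x (Or.inl hx))).2 a
  let f : Fin 17 → X := fun i => MulAut.conj (p ^ (i : ℕ)) x
  have hinj : Function.Injective f := by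
    intro i j h
    simp only [f, MulAut.conj_apply] at h
    have hc : p ^ ((i : ℤ) - j) * x = x * p ^ ((i : ℤ) - j) := by
      rw [← zpow_natCast, ← zpow_natCast] at h
      calc p ^ ((i : ℤ) - j) * x = (p ^ (j : ℤ))⁻¹ * (p ^ (i : ℤ) * x * (p ^ (i : ℤ))⁻¹) *
            p ^ (i : ℤ) := by group
        _ = (p ^ (j : ℤ))⁻¹ * (p ^ (j : ℤ) * x * (p ^ (j : ℤ))⁻¹) * p ^ (i : ℤ) := by rw [h]
        _ = x * p ^ ((i : ℤ) - j) := by group
    have hfix : p ^ ((i : ℤ) - j) • (x • a) = x • a := by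
      rw [smul_smul, hc, ← smul_smul, MulAction.mem_stabilizer_iff.1
        ((MulAction.stabilizer X a).zpow_mem (MulAction.mem_stabilizer_iff.2 hpa) _)]
    obtain ⟨k, hk⟩ := H.pow_fix hp hpa hxa hfix
    exact Fin.ext (by omega)
  have hsub : univ.image f ⊆ S := by
    intro g hg
    obtain ⟨i, -, rfl⟩ := Finset.mem_image.1 hg
    exact hnot _ (Or.inl (by rw [MulEquiv.orderOf_eq, hx]))
  have heq := Finset.eq_of_subset_of_card_le hsub
    (by rw [hS17, Finset.card_image_of_injective _ hinj, Finset.card_univ, Fintype.card_fin])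
  have hyS := hnot y (Or.inr hy)
  rw [← heq] at hyS
  obtain ⟨i, -, hi⟩ := Finset.mem_image.1 hyS
  rw [← hi, MulEquiv.orderOf_eq, hx] at hy
  omega

theorem pair_ne_one (H : Rigid X Ω) {a b : Ω} (hab : a ≠ b) : Nat.card (pairStab X a b) ≠ 1 :=
  fun h => card_ne H (by rw [← pair_card H hab, h, mul_one])

theorem zassenhaus (H : Rigid X Ω) : Cfsg.IsZassenhausGroup X Ω := by
  classical
  have := H.finiteΩ
  obtain ⟨a, b, hab⟩ := exists_two H
  refine ⟨H.faithful, H.multiply_two, fun g x y z hxy hyz hxz => H.three hxy hxz hyz, ?_, ?_⟩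
  · obtain ⟨g, hg⟩ := (pairStab X a b).ne_bot_iff_exists_ne_one.1 fun h =>
      pair_ne_one H hab (by rw [h, Subgroup.card_bot])
    exact ⟨g, fun h => hg (Subtype.ext h), a, b, hab, g.2.1, g.2.2⟩
  · intro N hN htrans
    by_contra hne
    push Not at hne
    have : Fact (Nat.Prime 2) := ⟨Nat.prime_two⟩
    have : Fact (Nat.Prime 3) := ⟨Nat.prime_three⟩
    have hcard : Nat.card N = 18 := by
      have h := Subgroup.card_mul_index (MulAction.stabilizer N a)
      rw [hne a, Subgroup.card_bot, one_mul, ← hne a,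
        MulAction.index_stabilizer_of_transitive N a, H.card18] at h
      exact h.symm
    have hinj : Function.Injective fun n : N => (n : X) • a := by
      intro m n h
      have : m⁻¹ * n ∈ MulAction.stabilizer N a := by
        show ((m : X)⁻¹ * (n : X)) • a = a
        rw [mul_smul, ← show (m : X) • a = (n : X) • a from h, inv_smul_smul]
      rw [hne a] at this
      exact inv_mul_eq_one.1 this
    obtain ⟨x, hx⟩ := exists_prime_orderOf_dvd_card' (G := N) 2 (by rw [hcard]; norm_num)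
    obtain ⟨y, hy⟩ := exists_prime_orderOf_dvd_card' (G := N) 3 (by rw [hcard]; norm_num)
    have hmove : ∀ n : N, n ≠ 1 → (n : X) • a ≠ a := fun n hn h =>
      hn (hinj (h.trans (one_smul X a).symm))
    obtain ⟨p, hp, hpa, -⟩ := H.rigid a
    obtain ⟨i, hi⟩ := H.cycle hp hpa (hmove x fun h => by simp [h] at hx)
      (hmove y fun h => by simp [h] at hy)
    have hmem : p ^ i * (x : X) * (p ^ i)⁻¹ ∈ N := hN.conj_mem _ x.2 _
    have hfix : (p ^ i)⁻¹ • a = a :=
      inv_smul_eq_iff.2 (MulAction.mem_stabilizer_iff.1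
        ((MulAction.stabilizer X a).zpow_mem (MulAction.mem_stabilizer_iff.2 hpa) i)).symm
    have hxy : (⟨_, hmem⟩ : N) = y := hinj (by
      show (p ^ i * (x : X) * (p ^ i)⁻¹) • a = (y : X) • a
      rw [mul_smul, mul_smul, hfix, hi])
    have h2 : orderOf (p ^ i * (x : X) * (p ^ i)⁻¹) = 2 := by
      rw [show p ^ i * (x : X) * (p ^ i)⁻¹ = MulAut.conj (p ^ i) (x : X) from rfl,
        MulEquiv.orderOf_eq, Subgroup.orderOf_coe, hx]
    have h3 : orderOf ((⟨_, hmem⟩ : N) : X) = 3 := by rw [Subgroup.orderOf_coe, hxy, hy]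
    exact absurd (h2.symm.trans h3) (by norm_num)

/-- The group order is `306 * 8` or `306 * 16`. -/
theorem card_cases (H : Rigid X Ω) : Nat.card X = 2448 ∨ Nat.card X = 4896 := by
  classical
  have := H.finiteΩ
  have := Fintype.ofFinite Ω
  obtain ⟨a, b, hab⟩ := exists_two H
  have hE := pair_card H hab
  obtain ⟨-, hd⟩ := H.pairStab_cyclic hab
  obtain ⟨k, hk, hk'⟩ := (Nat.dvd_prime_pow Nat.prime_two).1 (show Nat.card (pairStab X a b) ∣ 2 ^ 4 from hd)
  have hne := pair_ne_one H hab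
  have heven : Even (Nat.card (pairStab X a b)) := by
    rw [hk']
    exact Nat.even_pow.2 ⟨even_two, fun h => hne (by rw [hk', h, pow_zero])⟩
  have h16 := Cfsg.Agent.S0741.result (zassenhaus H) hab heven
  rw [← Nat.card_eq_fintype_card, H.card18, hk'] at h16
  rw [hk'] at hE
  interval_cases k <;> omega

theorem sign_pow_odd [Fintype Ω] [DecidableEq Ω] {p : X} (hp : orderOf p = 17) :
    Equiv.Perm.sign (MulAction.toPermHom X Ω p) = 1 := by
  have h : Equiv.Perm.sign (MulAction.toPermHom X Ω p) ^ 17 = 1 := by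
    rw [← map_pow, ← map_pow, ← hp, pow_orderOf_eq_one, map_one, map_one]
  rcases Int.units_eq_one_or (Equiv.Perm.sign (MulAction.toPermHom X Ω p)) with h1 | h1
  · exact h1
  · rw [h1] at h
    exact absurd h (by decide)

/-- The elements acting as even permutations. -/
abbrev evenPart (X : Type u) (Ω : Type v) [Group X] [MulAction X Ω] [Fintype Ω] [DecidableEq Ω] :
    Subgroup X :=
  (Equiv.Perm.sign.comp (MulAction.toPermHom X Ω)).ker

theorem even_rigid [Fintype Ω] [DecidableEq Ω] (H : Rigid X Ω) : Rigid (evenPart X Ω) Ω where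
  faithful := ⟨fun h => Subtype.ext (H.faithful.eq_of_smul_eq_smul h)⟩
  card18 := H.card18
  trans := ⟨fun a c => by
    rcases eq_or_ne a c with rfl | hac
    · exact ⟨1, one_smul _ _⟩
    obtain ⟨b, hba, hbc⟩ := exists_third H a c
    obtain ⟨p, hp, hpb, -⟩ := H.rigid b
    obtain ⟨i, hi⟩ := H.cycle hp hpb hba.symm hbc.symm
    exact ⟨⟨p ^ i, (evenPart X Ω).zpow_mem (MonoidHom.mem_ker.2 (sign_pow_odd hp)) i⟩, hi⟩⟩
  rigid a := by
    obtain ⟨p, hp, hpa, hn⟩ := H.rigid a
    refine ⟨⟨p, MonoidHom.mem_ker.2 (sign_pow_odd hp)⟩, by rw [← Subgroup.orderOf_coe, hp], hpa,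
      fun g hg => ?_⟩
    obtain ⟨i, hi⟩ := Subgroup.mem_zpowers_iff.1 (hn g hg)
    exact Subgroup.mem_zpowers_iff.2 ⟨i, Subtype.ext (by simpa using hi)⟩

theorem not_all_even [Fintype Ω] [DecidableEq Ω] (H : Rigid X Ω) (hX : Nat.card X = 4896) :
    ∃ g : X, Equiv.Perm.sign (MulAction.toPermHom X Ω g) ≠ 1 := by
  obtain ⟨a, b, hab⟩ := exists_two H
  have hE : Nat.card (pairStab X a b) = 16 := by have := pair_card H hab; omega
  obtain ⟨hcyc, -⟩ := H.pairStab_cyclic hab
  obtain ⟨g, hg⟩ := hcyc.exists_zpow_surjective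
  have hog : orderOf g = 16 := by rw [orderOf_eq_card_of_forall_mem_zpowers hg, hE]
  obtain ⟨c, hca, hcb⟩ := exists_third H a b
  let f : pairStab X a b → {x : Ω // x ≠ a ∧ x ≠ b} := fun h => ⟨(h : X) • c,
    fun e => hca (MulAction.injective (h : X) (e.trans (show (h : X) • a = a from h.2.1).symm)),
    fun e => hcb (MulAction.injective (h : X) (e.trans (show (h : X) • b = b from h.2.2).symm))⟩
  have hinj : Function.Injective f := by
    intro h k e
    have e' : (h : X) • c = (k : X) • c := congrArg Subtype.val e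
    refine Subtype.ext (inv_mul_eq_one.1 (H.three hab hca.symm hcb.symm ?_ ?_ ?_))
    · rw [mul_smul, show (k : X) • a = a from k.2.1, inv_smul_eq_iff,
        show (h : X) • a = a from h.2.1]
    · rw [mul_smul, show (k : X) • b = b from k.2.2, inv_smul_eq_iff,
        show (h : X) • b = b from h.2.2]
    · rw [mul_smul, ← e', inv_smul_smul]
  have hbij : Function.Bijective f := by
    refine (Nat.bijective_iff_injective_and_card f).2 ⟨hinj, ?_⟩
    rw [hE]
    have h1 : ({x : Ω | x ≠ a ∧ x ≠ b}) = ({a, b} : Set Ω)ᶜ := by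
      ext x
      simp
    have h2 : Nat.card {x : Ω // x ≠ a ∧ x ≠ b} = ({x : Ω | x ≠ a ∧ x ≠ b}).ncard :=
      Nat.card_coe_set_eq _
    rw [h2, h1, Set.ncard_compl, Set.ncard_pair hab, H.card18]
  set σ := MulAction.toPermHom X Ω (g : X) with hσ
  have hoσ : orderOf σ = 16 := by
    rw [hσ, orderOf_injective _ (toPerm_injective H), Subgroup.orderOf_coe, hog]
  have hcyc : σ.IsCycle := by
    refine ⟨c, ?_, fun y hy => ?_⟩
    · intro e
      have h1 : (g : X) = 1 := H.three hab hca.symm hcb.symm g.2.1 g.2.2 e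
      rw [← Subgroup.orderOf_coe, h1, orderOf_one] at hog
      omega
    · have hya : y ≠ a := fun e => hy (by rw [e]; exact g.2.1)
      have hyb : y ≠ b := fun e => hy (by rw [e]; exact g.2.2)
      obtain ⟨h, hh⟩ := hbij.2 ⟨y, hya, hyb⟩
      obtain ⟨i, hi⟩ := Subgroup.mem_zpowers_iff.1 (hg h)
      refine ⟨i, ?_⟩
      rw [hσ, ← map_zpow, ← Subgroup.coe_zpow, hi]
      exact congrArg Subtype.val hh
  refine ⟨g, ?_⟩
  rw [← hσ, hcyc.sign, ← hcyc.orderOf, hoσ]
  decide

theorem card_even [Fintype Ω] [DecidableEq Ω] (H : Rigid X Ω) :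
    Nat.card (evenPart X Ω) = 2448 := by
  rcases card_cases (even_rigid H) with h | h
  · exact h
  exfalso
  have hdvd := Subgroup.card_subgroup_dvd_card (evenPart X Ω)
  rw [h] at hdvd
  rcases card_cases H with hX | hX <;> rw [hX] at hdvd
  · exact absurd hdvd (by norm_num)
  obtain ⟨g, hg⟩ := not_all_even H hX
  refine hg (MonoidHom.mem_ker.1 (?_ : g ∈ evenPart X Ω))
  rw [Subgroup.eq_top_of_card_eq (evenPart X Ω) (h.trans hX.symm)]
  exact Subgroup.mem_top g

theorem sylow3_ge (H : Rigid X Ω) : 136 ≤ Nat.card (Sylow 3 X) := by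
  classical
  have := H.finiteΩ
  have := Fintype.ofFinite Ω
  have := Fintype.ofFinite X
  have := Fintype.ofFinite (evenPart X Ω)
  have : Fact (Nat.Prime 3) := ⟨Nat.prime_three⟩
  have := Fintype.ofFinite (Sylow 3 X)
  have HY := even_rigid H
  have hY := card_even H
  set S := univ.filter fun g : evenPart X Ω => ∀ a : Ω, g • a ≠ a with hS
  have hS1088 : S.card = 1088 := by
    have h : 2 * S.card + 272 = Nat.card (evenPart X Ω) := by convert card_fpf HY
    omega
  have he : ∀ a b : Ω, a ≠ b → Nat.card (pairStab (evenPart X Ω) a b) = 8 := fun a b hab => by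
    have := pair_card HY hab
    omega
  have hsub : S.image (fun g : evenPart X Ω => (g : X)) ⊆
      univ.biUnion fun P : Sylow 3 X => (univ.filter fun g : X => g ∈ P).erase 1 := by
    intro g hg
    obtain ⟨y, hy, rfl⟩ := Finset.mem_image.1 hg
    have hy' := (Finset.mem_filter.1 hy).2
    have h9 := fpf_pow_nine HY (fun g => MonoidHom.mem_ker.1 g.2) he hy'
    have hP : IsPGroup 3 (Subgroup.zpowers (y : X)) := by
      rintro ⟨z, hz⟩
      obtain ⟨i, rfl⟩ := Subgroup.mem_zpowers_iff.1 hz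
      refine ⟨2, Subtype.ext ?_⟩
      show ((y : X) ^ i) ^ (3 ^ 2) = 1
      rw [← zpow_natCast, ← zpow_mul, mul_comm, zpow_mul, zpow_natCast, ← Subgroup.coe_pow,
        show (3 ^ 2 : ℕ) = 9 by norm_num, h9, Subgroup.coe_one, one_zpow]
    obtain ⟨P, hP'⟩ := hP.exists_le_sylow
    obtain ⟨a⟩ : Nonempty Ω := (Nat.card_pos_iff.1 (by rw [H.card18]; norm_num)).1
    exact Finset.mem_biUnion.2 ⟨P, mem_univ _, Finset.mem_erase.2 ⟨fun e => hy' a (by
      show (y : X) • a = a
      rw [e, one_smul]), Finset.mem_filter.2 ⟨mem_univ _, hP' (Subgroup.mem_zpowers _)⟩⟩⟩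
  have h8 : ∀ P : Sylow 3 X, ((univ.filter fun g : X => g ∈ P).erase 1).card ≤ 8 := by
    intro P
    rw [Finset.card_erase_of_mem (Finset.mem_filter.2 ⟨mem_univ _, one_mem _⟩),
      ← Fintype.card_subtype, ← Nat.card_eq_fintype_card]
    obtain ⟨k, hk⟩ := IsPGroup.iff_card.1 P.2
    have hd := Subgroup.card_subgroup_dvd_card (P : Subgroup X)
    rw [hk] at hd
    have hk2 : k ≤ 2 := by
      by_contra hk'
      have h27 : 3 ^ 3 ∣ Nat.card X := (pow_dvd_pow 3 (by omega)).trans hd
      rcases card_cases H with hX | hX <;> rw [hX] at h27 <;> norm_num at h27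
    have : Nat.card {g : X // g ∈ P} = 3 ^ k := hk
    have h9 : 3 ^ k ≤ 3 ^ 2 := Nat.pow_le_pow_right (by norm_num) hk2
    omega
  have h := (Finset.card_le_card hsub).trans (Finset.card_biUnion_le.trans
    (Finset.sum_le_card_nsmul _ _ 8 fun P _ => h8 P))
  rw [Finset.card_image_of_injective _ Subtype.val_injective, hS1088, Finset.card_univ,
    ← Nat.card_eq_fintype_card, smul_eq_mul] at h
  omega

/-- The setwise stabiliser of two points. -/
def swapStab (X : Type u) {Ω : Type v} [Group X] [MulAction X Ω] (a b : Ω) : Subgroup X where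
  carrier := {g | (g • a = a ∧ g • b = b) ∨ (g • a = b ∧ g • b = a)}
  one_mem' := Or.inl ⟨one_smul _ _, one_smul _ _⟩
  mul_mem' := by
    intro g h hg hh
    rcases hg with ⟨g1, g2⟩ | ⟨g1, g2⟩ <;> rcases hh with ⟨h1, h2⟩ | ⟨h1, h2⟩
    · exact Or.inl ⟨by rw [mul_smul, h1, g1], by rw [mul_smul, h2, g2]⟩
    · exact Or.inr ⟨by rw [mul_smul, h1, g2], by rw [mul_smul, h2, g1]⟩
    · exact Or.inr ⟨by rw [mul_smul, h1, g1], by rw [mul_smul, h2, g2]⟩
    · exact Or.inl ⟨by rw [mul_smul, h1, g2], by rw [mul_smul, h2, g1]⟩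
  inv_mem' := by
    intro g hg
    rcases hg with ⟨g1, g2⟩ | ⟨g1, g2⟩
    · exact Or.inl ⟨inv_smul_eq_iff.2 g1.symm, inv_smul_eq_iff.2 g2.symm⟩
    · exact Or.inr ⟨inv_smul_eq_iff.2 g2.symm, inv_smul_eq_iff.2 g1.symm⟩

theorem sylow2_eq (H : Rigid X Ω) : Nat.card (Sylow 2 X) = 153 := by
  classical
  have : Fact (Nat.Prime 2) := ⟨Nat.prime_two⟩
  obtain ⟨a, b, hab⟩ := exists_two H
  set E := pairStab X a b with hE
  set T := swapStab X a b with hT
  have hET : E ≤ T := fun g hg => Or.inl ⟨hg.1, hg.2⟩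
  obtain ⟨s, hsa, hsb⟩ := H.two_trans hab hab.symm
  have hidx : (E.subgroupOf T).index = 2 := by
    refine Subgroup.index_eq_two_iff.2 ⟨⟨s, Or.inr ⟨hsa, hsb⟩⟩, ?_⟩
    rintro ⟨g, hg⟩
    rcases hg with ⟨g1, g2⟩ | ⟨g1, g2⟩
    · refine Or.inr ⟨⟨g1, g2⟩, fun h => hab ?_⟩
      have h' : (g * s) • a = a := h.1
      rw [mul_smul, hsa, g2] at h'
      exact h'.symm
    · refine Or.inl ⟨⟨?_, ?_⟩, fun h => hab ?_⟩
      · show (g * s) • a = a
        rw [mul_smul, hsa, g2]
      · show (g * s) • b = b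
        rw [mul_smul, hsb, g1]
      · exact (show g • a = a from h.1).symm.trans g1
  have hTcard : Nat.card T = Nat.card E * 2 := by
    rw [← Subgroup.card_mul_index (E.subgroupOf T), hidx,
      Nat.card_congr (Subgroup.subgroupOfEquivOfLe hET).toEquiv]
  have hEX := pair_card H hab
  rw [← hE] at hEX
  have hTi := Subgroup.card_mul_index T
  have hpow : ∃ k, Nat.card T = 2 ^ k ∧ 3 ≤ k := by
    rcases card_cases H with h | h
    · exact ⟨4, by omega, by norm_num⟩
    · exact ⟨5, by omega, by norm_num⟩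
  obtain ⟨k, hk, hk3⟩ := hpow
  have hindex : T.index = 153 := by
    rw [hTcard] at hTi
    rcases card_cases H with h | h <;> rw [h] at hTi hEX <;>
      [rw [show Nat.card E = 8 by omega] at hTi; rw [show Nat.card E = 16 by omega] at hTi] <;>
      omega
  let P : Sylow 2 X := (IsPGroup.of_card hk).toSylow (by rw [hindex]; decide)
  rw [Sylow.card_eq_index_normalizer P, ← hindex]
  congr 1
  refine le_antisymm (fun d hd => ?_) Subgroup.le_normalizer
  obtain ⟨hcyc, -⟩ := H.pairStab_cyclic hab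
  obtain ⟨y, hy⟩ := hcyc.exists_zpow_surjective
  have hoy : 8 ≤ orderOf (y : X) := by
    rw [Subgroup.orderOf_coe, orderOf_eq_card_of_forall_mem_zpowers hy]
    have h' := pair_card H hab
    rcases card_cases H with h | h <;> omega
  have hw : d * (y : X) * d⁻¹ ∈ T := (Subgroup.mem_normalizer_iff.1 hd _).1 (hET y.2)
  set z := d * ((y : X) * y) * d⁻¹ with hz
  have hzfix : z • a = a ∧ z • b = b := by
    have hzw : z = d * (y : X) * d⁻¹ * (d * (y : X) * d⁻¹) := by rw [hz]; group
    rcases hw with ⟨w1, w2⟩ | ⟨w1, w2⟩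
    · exact ⟨by rw [hzw, mul_smul, w1, w1], by rw [hzw, mul_smul, w2, w2]⟩
    · exact ⟨by rw [hzw, mul_smul, w1, w2], by rw [hzw, mul_smul, w2, w1]⟩
  have hzd : ∀ x : Ω, (y : X) • x = x → z • (d • x) = d • x := fun x hx => by
    rw [hz, mul_smul, inv_smul_smul, mul_smul, mul_smul, hx, hx]
  have hz1 : z ≠ 1 := fun h => by
    have h2 : (y : X) ^ 2 = 1 := by
      rw [pow_two, ← conj_eq_one_iff (a := d), ← hz, h]
    have := Nat.le_of_dvd two_pos (orderOf_dvd_of_pow_eq_one h2)
    omega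
  have hmem : ∀ x : Ω, (y : X) • x = x → d • x = a ∨ d • x = b := fun x hx => by
    by_contra hx'
    push Not at hx'
    exact hz1 (H.three hab hx'.1.symm hx'.2.symm hzfix.1 hzfix.2 (hzd x hx))
  rcases hmem a y.2.1 with ha | ha <;> rcases hmem b y.2.2 with hb | hb
  · exact absurd (MulAction.injective d (ha.trans hb.symm)) hab
  · exact Or.inl ⟨ha, hb⟩
  · exact Or.inr ⟨ha, hb⟩
  · exact absurd (MulAction.injective d (ha.trans hb.symm)) hab

end Cfsg.Agent.Lib.SylowNumbers17.Facts
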