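import Cfsg.Agent.Lib.SylowNumbers17.Facts
import Cfsg.Agent.Lib.PGroups.Omega

/-!
# The conjugation action on the 18 Sylow 17-subgroups

For a group with trivial centre and Sylow numbers 18, 136, 153, the action on the Sylow 17-subgroups is
rigid and faithful.
-/

set_option autoImplicit false
set_option linter.dupNamespace false

open scoped Pointwise

namespace Cfsg.Agent.Lib.SylowNumbers17.Kernel

open Rigid

universe u

variable {G : Type u} [Group G] [Finite G]

/-- The Sylow 17-subgroups. -/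
abbrev Syl (G : Type u) [Group G] := Sylow 17 G

/-- The conjugation action on the Sylow 17-subgroups, as permutations. -/
abbrev π (G : Type u) [Group G] : G →* Equiv.Perm (Syl G) := MulAction.toPermHom G (Syl G)

theorem π_smul (g : G) (Q : Syl G) : π G g Q = g • Q := rfl

theorem rigid_range [Fact (Nat.Prime 17)] (h18 : Nat.card (Syl G) = 18) :
    Rigid (π G).range (Syl G) where
  faithful := ⟨fun h => Subtype.ext (Equiv.ext h)⟩
  card18 := h18
  trans := ⟨fun a c => by
    obtain ⟨g, hg⟩ := MulAction.exists_smul_eq G a c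
    exact ⟨⟨π G g, g, rfl⟩, hg⟩⟩
  rigid a := by
    have : Finite (Syl G) := inferInstance
    set P' := (a : Subgroup G).map (π G) with hP'
    have hP'p : IsPGroup 17 P' := a.2.map _
    obtain ⟨k, hk⟩ := IsPGroup.iff_card.1 hP'p
    have hk1 : k ≤ 1 := by
      by_contra hk'
      have h2 : 17 ^ 2 ∣ Nat.card (Equiv.Perm (Syl G)) :=
        (pow_dvd_pow 17 (by omega)).trans (hk ▸ Subgroup.card_subgroup_dvd_card P')
      rw [Nat.card_perm, h18] at h2
      exact absurd h2 (by decide +kernel)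
    have hne : k ≠ 0 := by
      rintro rfl
      have hbot : P' = ⊥ := Subgroup.card_eq_one.1 (by rw [hk, pow_zero])
      have : Nontrivial (Syl G) := Finite.one_lt_card_iff_nontrivial.1 (by omega)
      obtain ⟨Q, hQ⟩ := exists_ne a
      have hfix : Q ∈ MulAction.fixedPoints (a : Subgroup G) (Syl G) := fun g => by
        have hg : π G g = 1 := by
          have : π G g ∈ P' := ⟨g, g.2, rfl⟩
          rwa [hbot, Subgroup.mem_bot] at this
        show (g : G) • Q = Q
        rw [← π_smul, hg]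
        rfl
      exact hQ (Sylow.ext (a.3 Q.2 (a.2.sylow_mem_fixedPoints_iff.1 hfix)))
    obtain rfl : k = 1 := by omega
    obtain ⟨⟨p, hp⟩, hgen⟩ := (isCyclic_of_prime_card (α := P') (by rw [hk, pow_one])).exists_zpow_surjective
    have hord : orderOf p = 17 := by
      exact (Subgroup.orderOf_coe (⟨p, hp⟩ : P')).trans
        (by rw [orderOf_eq_card_of_forall_mem_zpowers hgen, hk, pow_one])
    obtain ⟨g₀, hg₀, rfl⟩ := Subgroup.mem_map.1 hp
    refine ⟨⟨π G g₀, g₀, rfl⟩, by rw [← Subgroup.orderOf_coe]; exact hord, ?_, ?_⟩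
    · exact Sylow.smul_eq_iff_mem_normalizer.2 (Subgroup.le_normalizer hg₀)
    · rintro ⟨_, g, rfl⟩ (hg : g • a = a)
      have hmem : π G (g * g₀ * g⁻¹) ∈ P' :=
        ⟨_, (Subgroup.mem_normalizer_iff.1 (Sylow.smul_eq_iff_mem_normalizer.1 hg) g₀).1 hg₀, rfl⟩
      obtain ⟨i, hi⟩ := Subgroup.mem_zpowers_iff.1 (hgen ⟨_, hmem⟩)
      refine Subgroup.mem_zpowers_iff.2 ⟨i, Subtype.ext ?_⟩
      have h1 : (π G g₀) ^ i = π G (g * g₀ * g⁻¹) := congrArg Subtype.val hi
      rw [map_mul, map_mul, map_inv] at h1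
      simpa using h1

theorem le_sylow_of_normalizes {r : ℕ} [Fact r.Prime] {K : Subgroup G}
    (hK : ∀ R : Sylow r G, K ≤ Subgroup.normalizer ((R : Subgroup G) : Set G)) {x : G} (hx : x ∈ K)
    (hr : IsPGroup r (Subgroup.zpowers x)) (R : Sylow r G) : x ∈ R := by
  have h := hr.inf_normalizer_sylow R
  have hle : Subgroup.zpowers x ≤ Subgroup.normalizer ((R : Subgroup G) : Set G) :=
    Subgroup.zpowers_le.2 (hK R hx)
  exact (inf_eq_left.1 (h.symm.trans (inf_eq_left.2 hle))) (Subgroup.mem_zpowers x)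

theorem isPGroup_zpowers {r : ℕ} (R : Sylow r G) {x : G} (hx : x ∈ R) :
    IsPGroup r (Subgroup.zpowers x) :=
  R.2.to_le (Subgroup.zpowers_le.2 hx)

theorem inf_normal {r : ℕ} [Fact r.Prime] {K : Subgroup G} [K.Normal]
    (hK : ∀ R : Sylow r G, K ≤ Subgroup.normalizer ((R : Subgroup G) : Set G)) (R : Sylow r G) :
    (K ⊓ (R : Subgroup G)).Normal := by
  refine ⟨fun x hx g => ⟨‹K.Normal›.conj_mem x hx.1 g, ?_⟩⟩
  refine le_sylow_of_normalizes hK (‹K.Normal›.conj_mem x hx.1 g) ?_ R
  rw [show g * x * g⁻¹ = MulAut.conj g x from rfl,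
    show Subgroup.zpowers (MulAut.conj g x) = (Subgroup.zpowers x).map (MulAut.conj g).toMonoidHom
      from (MonoidHom.map_zpowers (MulAut.conj g).toMonoidHom x).symm]
  exact (isPGroup_zpowers R hx.2).map _

theorem normalizes_of_card_ge {X : Type u} [Group X] [Finite X] {r : ℕ} [Fact r.Prime] {f : G →* X}
    (hf : Function.Surjective f) (hle : Nat.card (Sylow r G) ≤ Nat.card (Sylow r X))
    (R : Sylow r G) : f.ker ≤ Subgroup.normalizer ((R : Subgroup G) : Set G) := by
  set N := Subgroup.normalizer ((R : Subgroup G) : Set G) with hN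
  have h1 : Nat.card (Sylow r X) ∣ (N.map f).index := by
    rw [Sylow.card_eq_index_normalizer (R.mapSurjective hf)]
    exact Subgroup.index_dvd_of_le (Subgroup.le_normalizer_map f)
  have h2 : (N.map f).index = (N ⊔ f.ker).index := by
    rw [Subgroup.index_map, MonoidHom.range_eq_top.2 hf, Subgroup.index_top, mul_one]
  have h3 : N.relIndex (N ⊔ f.ker) * (N ⊔ f.ker).index = N.index :=
    Subgroup.relIndex_mul_index le_sup_left
  rw [h2] at h1
  have h4 : N.index ≤ (N ⊔ f.ker).index := by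
    exact (Sylow.card_eq_index_normalizer R).symm.le.trans <| hle.trans (Nat.le_of_dvd (Nat.pos_of_ne_zero Subgroup.index_ne_zero_of_finite) h1)
  have h5 : N.relIndex (N ⊔ f.ker) = 1 := by
    have hpos : 0 < (N ⊔ f.ker).index := Nat.pos_of_ne_zero Subgroup.index_ne_zero_of_finite
    have hpos' : N.relIndex (N ⊔ f.ker) ≠ 0 := fun h => by
      rw [h, zero_mul] at h3
      exact Subgroup.index_ne_zero_of_finite h3.symm
    nlinarith [Nat.one_le_iff_ne_zero.2 hpos']
  exact le_sup_right.trans (Subgroup.relIndex_eq_one.1 h5)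

theorem commute_of_mem {r s : ℕ} [Fact r.Prime] [Fact s.Prime] (hrs : r ≠ s) {K : Subgroup G}
    [K.Normal] (hr : ∀ R : Sylow r G, K ≤ Subgroup.normalizer ((R : Subgroup G) : Set G))
    (hs : ∀ S : Sylow s G, K ≤ Subgroup.normalizer ((S : Subgroup G) : Set G))
    (R : Sylow r G) (S : Sylow s G) {x y : G} (hx : x ∈ K ⊓ (R : Subgroup G)) (hy : y ∈ S) :
    Commute x y := by
  have h1 : x * y * x⁻¹ * y⁻¹ ∈ K ⊓ (R : Subgroup G) := by
    rw [show x * y * x⁻¹ * y⁻¹ = x * (y * x⁻¹ * y⁻¹) by group]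
    exact mul_mem hx ((inf_normal hr R).conj_mem _ (inv_mem hx) y)
  have h2 : x * y * x⁻¹ * y⁻¹ ∈ (S : Subgroup G) :=
    mul_mem ((Subgroup.mem_normalizer_iff.1 (hs S hx.1) y).1 hy) (inv_mem hy)
  have h3 := Subgroup.disjoint_def.1 (IsPGroup.disjoint_of_ne r s hrs _ _ R.2 S.2) h1.2 h2
  exact mul_inv_eq_iff_eq_mul.1 (mul_inv_eq_one.1 h3)

theorem no_sylow_inside [Fact (Nat.Prime 17)] {r : ℕ} [Fact r.Prime] {K : Subgroup G} [K.Normal]
    (h17 : ∀ P : Sylow 17 G, K ≤ Subgroup.normalizer ((P : Subgroup G) : Set G))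
    (R : Sylow r G) (hRK : (R : Subgroup G) ≤ K) (hdvd : 17 ∣ Nat.card (Sylow r G))
    (hlt : Nat.card (Sylow r G) < 289) : r ∣ 16 := by
  obtain ⟨P⟩ := (inferInstance : Nonempty (Sylow 17 G))
  set A := K ⊓ (P : Subgroup G) with hA
  have hAn : A.Normal := inf_normal h17 P
  have hAp : IsPGroup 17 A := P.2.to_le inf_le_right
  set O := MulAction.orbit A R with hO
  obtain ⟨k, hk⟩ := hAp.card_orbit R
  have hk1 : k ≤ 1 := by
    by_contra hk'
    have h1 : 17 ^ 2 ≤ Nat.card O := by
      rw [hO, hk]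
      exact Nat.pow_le_pow_right (by norm_num) (by omega)
    have h2 : Nat.card O ≤ Nat.card (Sylow r G) :=
      Nat.card_le_card_of_injective _ Subtype.val_injective
    omega
  -- `A` moves `R`
  have hk0 : k ≠ 0 := by
    rintro rfl
    rw [pow_zero] at hk
    have hAN : ∀ a ∈ A, a • R = R := fun a ha =>
      congrArg Subtype.val ((Nat.card_eq_one_iff_unique.1 hk).1.elim
        (⟨a • R, ⟨⟨a, ha⟩, rfl⟩⟩ : MulAction.orbit A R) ⟨R, MulAction.mem_orbit_self R⟩)
    have htrans : MulAction.IsPretransitive K (Sylow r G) := by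
      refine ⟨fun S T => ?_⟩
      have hle : ∀ S : Sylow r G, (S : Subgroup G) ≤ K := fun S => by
        obtain ⟨g, rfl⟩ := MulAction.exists_smul_eq G R S
        rintro x ⟨y, hy, rfl⟩
        exact ‹K.Normal›.conj_mem y (hRK hy) g
      obtain ⟨h, hh⟩ := MulAction.exists_smul_eq K (S.subtype (hle S)) (T.subtype (hle T))
      rw [Sylow.smul_subtype] at hh
      exact ⟨h, Sylow.subtype_injective hh⟩
    have hidx := MulAction.index_stabilizer_of_transitive K R
    have hle : A.subgroupOf K ≤ MulAction.stabilizer K R := fun x hx => hAN x hx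
    have h1 : Nat.card A * 17 ∣ Nat.card K := by
      rw [← Subgroup.card_mul_index (MulAction.stabilizer K R), hidx,
        ← Nat.card_congr (Subgroup.subgroupOfEquivOfLe (inf_le_left : A ≤ K)).toEquiv]
      exact Nat.mul_dvd_mul (Subgroup.card_dvd_of_le hle) hdvd
    obtain ⟨j, hj⟩ := IsPGroup.iff_card.1 hAp
    rw [hj, ← pow_succ] at h1
    obtain ⟨B, hB⟩ := Sylow.exists_subgroup_card_pow_prime 17 h1
    have hBA : B.map K.subtype ≤ A := by
      rintro x ⟨b, hb, rfl⟩
      refine ⟨b.2, le_sylow_of_normalizes h17 b.2 ?_ P⟩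
      have h' := ((IsPGroup.of_card hB).to_le (Subgroup.zpowers_le.2 hb)).map K.subtype
      rwa [MonoidHom.map_zpowers] at h'
    have h2 := Nat.le_of_dvd Nat.card_pos (Subgroup.card_dvd_of_le hBA)
    rw [Nat.card_congr (B.equivMapOfInjective _ K.subtype_injective).toEquiv.symm, hB, hj] at h2
    have := (Nat.pow_le_pow_iff_right (by norm_num : 1 < 17)).1 h2
    omega
  obtain rfl : k = 1 := by omega
  -- `R` permutes the orbit
  let S : SubMulAction (R : Subgroup G) (Sylow r G) :=
    { carrier := O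
      smul_mem' := by
        rintro y _ ⟨a, rfl⟩
        refine ⟨⟨(y : G) * a * (y : G)⁻¹, hAn.conj_mem a a.2 y⟩, ?_⟩
        show ((y : G) * a * (y : G)⁻¹) • R = (y : G) • ((a : G) • R)
        have hyR : (y : G)⁻¹ • R = R :=
          Sylow.smul_eq_iff_mem_normalizer.2 (Subgroup.le_normalizer (inv_mem y.2))
        rw [mul_smul, mul_smul, hyR] }
  have hmod := R.2.card_modEq_card_fixedPoints S
  have hS : Nat.card S = 17 := by
    show Nat.card O = 17
    rw [hO, hk, pow_one]
  have hfix : Nat.card (MulAction.fixedPoints (R : Subgroup G) S) = 1 := by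
    have hRf : (⟨R, MulAction.mem_orbit_self R⟩ : S) ∈ MulAction.fixedPoints (R : Subgroup G) S :=
      fun y => Subtype.ext (Sylow.smul_eq_iff_mem_normalizer.2 (Subgroup.le_normalizer y.2))
    have hsub : Subsingleton (MulAction.fixedPoints (R : Subgroup G) S) := by
      have hkey : ∀ Q : S, Q ∈ MulAction.fixedPoints (R : Subgroup G) S → (Q : Sylow r G) = R := by
        intro Q hQ
        exact Sylow.ext (R.3 (Q : Sylow r G).2
          (R.2.sylow_mem_fixedPoints_iff.1 fun y => congrArg Subtype.val (hQ y)))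
      exact ⟨fun Q Q' => Subtype.ext (Subtype.ext ((hkey _ Q.2).trans (hkey _ Q'.2).symm))⟩
    exact Nat.card_eq_one_iff_unique.2 ⟨hsub, ⟨⟨_, hRf⟩⟩⟩
  rw [hS, hfix] at hmod
  exact (Nat.modEq_iff_dvd' (by norm_num)).1 hmod.symm

theorem inf_eq_bot {K : Subgroup G} [K.Normal] (hZ : Subgroup.center G = ⊥) {r : ℕ} [Fact r.Prime]
    (hK : ∀ s : ℕ, s.Prime → s ∣ Nat.card G → ∀ S : Sylow s G,
      K ≤ Subgroup.normalizer ((S : Subgroup G) : Set G))
    (hrG : r ∣ Nat.card G) (R : Sylow r G) : K ⊓ (R : Subgroup G) = ⊥ := by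
  by_contra hne
  have hn := inf_normal (hK r Fact.out hrG) R
  have hne' : (K ⊓ (R : Subgroup G)).subgroupOf (R : Subgroup G) ≠ ⊥ := fun h => hne
    (le_antisymm (fun x hx => by
      have h' : (⟨x, hx.2⟩ : (R : Subgroup G)) ∈ (K ⊓ (R : Subgroup G)).subgroupOf R := hx
      rw [h, Subgroup.mem_bot] at h'
      exact congrArg Subtype.val h') bot_le)
  obtain ⟨⟨z, hz⟩, hz1⟩ := Subgroup.ne_bot_iff_exists_ne_one.1
    (Cfsg.Agent.Lib.PGroups.normal_inf_center_ne_bot R.2
      ((K ⊓ (R : Subgroup G)).subgroupOf (R : Subgroup G)) hne')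
  have hzA : (z : G) ∈ K ⊓ (R : Subgroup G) := hz.1
  have hz1' : (z : G) ≠ 1 := fun h => hz1 (Subtype.ext (Subtype.ext h))
  have hzc : (z : G) ∈ Subgroup.center G := by
    set C := Subgroup.centralizer ({(z : G)} : Set G) with hC
    have hmem : ∀ y : G, Commute y (z : G) → y ∈ C := fun y hy =>
      Subgroup.mem_centralizer_singleton_iff.2 hy.eq
    have htop : C = ⊤ := by
      refine Subgroup.eq_top_of_card_eq C (Nat.dvd_antisymm (Subgroup.card_subgroup_dvd_card C) ?_)
      refine (Nat.dvd_iff_prime_pow_dvd_dvd _ _).2 fun s j hs hsj => ?_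
      rcases eq_or_ne j 0 with rfl | hj
      · simp
      have : Fact s.Prime := ⟨hs⟩
      obtain ⟨S, hS⟩ : ∃ S : Sylow s G, (S : Subgroup G) ≤ C := by
        rcases eq_or_ne r s with rfl | hrs
        · refine ⟨R, fun y hy => hmem y ?_⟩
          have := Subgroup.mem_center_iff.1 hz.2 ⟨y, hy⟩
          exact congrArg Subtype.val this
        · obtain ⟨S⟩ := (inferInstance : Nonempty (Sylow s G))
          exact ⟨S, fun y hy => hmem y (commute_of_mem hrs (hK r Fact.out hrG)
            (hK s hs ((dvd_pow_self s hj).trans hsj)) R S hzA hy).symm⟩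
      refine dvd_trans ?_ (Subgroup.card_dvd_of_le hS)
      rw [S.card_eq_multiplicity]
      exact pow_dvd_pow s ((hs.pow_dvd_iff_le_factorization Nat.card_pos.ne').1 hsj)
    rw [Subgroup.mem_center_iff]
    intro y
    exact Subgroup.mem_centralizer_singleton_iff.1 (show y ∈ C by rw [htop]; exact Subgroup.mem_top y)
  rw [hZ, Subgroup.mem_bot] at hzc
  exact hz1' hzc

end Cfsg.Agent.Lib.SylowNumbers17.Kernel
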