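import Cfsg.Agent.Lib.SylowNumbers17.Facts
import Cfsg.Agent.S0730
import Cfsg.Agent.S0731
import Cfsg.Agent.Lib.Linear.FamilyHom
import Cfsg.Agent.Lib.Linear.Order
import Cfsg.Agent.Lib.SharpThree.Exists

/-!
# Rigid groups on 18 points are PSL(2, 17) or PGL(2, 17)
-/

set_option autoImplicit false
set_option linter.dupNamespace false

open Finset

namespace Cfsg.Agent.Lib.SylowNumbers17.Recognise

open Rigid Facts

universe u v

theorem nonempty_pglCongr {K L : Type*} [Field K] [Field L] (e : K ≃+* L) :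
    Nonempty ((GL (Fin 2) K ⧸ Subgroup.center (GL (Fin 2) K)) ≃*
      (GL (Fin 2) L ⧸ Subgroup.center (GL (Fin 2) L))) := by
  let φ : GL (Fin 2) K ≃* GL (Fin 2) L :=
    Units.mapEquiv (e.mapMatrix : Matrix (Fin 2) (Fin 2) K ≃+* Matrix (Fin 2) (Fin 2) L).toMulEquiv
  refine ⟨QuotientGroup.congr _ _ φ ?_⟩
  ext h
  show h ∈ (Subgroup.center _).map φ.toMonoidHom ↔ _
  rw [Subgroup.mem_map_equiv, Subgroup.mem_center_iff, Subgroup.mem_center_iff]
  constructor
  · intro hh g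
    have h1 := congrArg φ (hh (φ.symm g))
    simpa using h1
  · intro hh g
    apply φ.injective
    simpa using hh (φ g)

theorem eq_seventeen {q : ℕ} (h : q * (q - 1) * (q + 1) = 4896) : q = 17 := by
  rcases lt_trichotomy q 17 with hq | hq | hq
  · have := Nat.mul_le_mul (Nat.mul_le_mul (show q ≤ 16 by omega) (show q - 1 ≤ 15 by omega))
      (show q + 1 ≤ 17 by omega)
    omega
  · exact hq
  · have := Nat.mul_le_mul (Nat.mul_le_mul (show 18 ≤ q by omega) (show 17 ≤ q - 1 by omega))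
      (show 19 ≤ q + 1 by omega)
    omega

variable {X : Type u} {Ω : Type v} [Group X] [Finite X] [MulAction X Ω]

theorem not_three (H : Rigid X Ω) (hX : Nat.card X = 2448) :
    ¬ MulAction.IsMultiplyPretransitive X Ω 3 := by
  intro h3
  have := H.finiteΩ
  obtain ⟨a, b, hab⟩ := exists_two H
  have hE : Nat.card (pairStab X a b) = 8 := by have := Count.pair_card H hab; omega
  obtain ⟨c, hca, hcb⟩ := exists_third H a b
  let f : pairStab X a b → {x : Ω // x ≠ a ∧ x ≠ b} := fun h => ⟨(h : X) • c,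
    fun e => hca (MulAction.injective (h : X) (e.trans (show (h : X) • a = a from h.2.1).symm)),
    fun e => hcb (MulAction.injective (h : X) (e.trans (show (h : X) • b = b from h.2.2).symm))⟩
  have hsurj : Function.Surjective f := by
    rintro ⟨d, hda, hdb⟩
    obtain ⟨g, ga, gb, gc⟩ := Cfsg.Agent.Lib.SharpThree.exists_of_trans h3 a b c a b d hab
      hca.symm hcb.symm hab hda.symm hdb.symm
    exact ⟨⟨g, ga, gb⟩, Subtype.ext gc⟩
  have hle := Nat.card_le_card_of_surjective f hsurj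
  have h2 : Nat.card {x : Ω // x ≠ a ∧ x ≠ b} = ({x : Ω | x ≠ a ∧ x ≠ b}).ncard :=
    Nat.card_coe_set_eq _
  rw [h2, show {x : Ω | x ≠ a ∧ x ≠ b} = ({a, b} : Set Ω)ᶜ by ext x; simp, Set.ncard_compl,
    Set.ncard_pair hab, H.card18, hE] at hle
  omega

theorem three_trans (H : Rigid X Ω) (hX : Nat.card X = 4896) (x y : Fin 3 ↪ Ω) :
    ∃ g : X, g • x = y := by
  have := H.finiteΩ
  have hx : ∀ i j, i ≠ j → x i ≠ x j := fun i j h e => h (x.injective e)
  have hy : ∀ i j, i ≠ j → y i ≠ y j := fun i j h e => h (y.injective e)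
  obtain ⟨g, g0, g1⟩ := H.two_trans (hx 0 1 (by decide)) (hy 0 1 (by decide))
  have hab := hy 0 1 (by decide)
  have hne : ∀ z : Ω, z ≠ x 0 → z ≠ x 1 → g • z ≠ y 0 ∧ g • z ≠ y 1 := fun z h0 h1 =>
    ⟨fun e => h0 (MulAction.injective g (e.trans g0.symm)),
      fun e => h1 (MulAction.injective g (e.trans g1.symm))⟩
  obtain ⟨hc0, hc1⟩ := hne (x 2) (hx 2 0 (by decide)) (hx 2 1 (by decide))
  let f : pairStab X (y 0) (y 1) → {z : Ω // z ≠ y 0 ∧ z ≠ y 1} := fun h =>
    ⟨(h : X) • (g • x 2),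
      fun e => hc0 (MulAction.injective (h : X) (e.trans (show (h : X) • y 0 = y 0 from h.2.1).symm)),
      fun e => hc1 (MulAction.injective (h : X) (e.trans (show (h : X) • y 1 = y 1 from h.2.2).symm))⟩
  have hinj : Function.Injective f := by
    intro h k e
    have e' : (h : X) • (g • x 2) = (k : X) • (g • x 2) := congrArg Subtype.val e
    refine Subtype.ext (inv_mul_eq_one.1 (H.three hab hc0.symm hc1.symm ?_ ?_ ?_))
    · rw [mul_smul, show (k : X) • y 0 = y 0 from k.2.1, inv_smul_eq_iff,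
        show (h : X) • y 0 = y 0 from h.2.1]
    · rw [mul_smul, show (k : X) • y 1 = y 1 from k.2.2, inv_smul_eq_iff,
        show (h : X) • y 1 = y 1 from h.2.2]
    · rw [mul_smul (h : X)⁻¹, ← e', inv_smul_smul]
  have hbij : Function.Bijective f := by
    refine (Nat.bijective_iff_injective_and_card f).2 ⟨hinj, ?_⟩
    have h2 : Nat.card {z : Ω // z ≠ y 0 ∧ z ≠ y 1} = ({z : Ω | z ≠ y 0 ∧ z ≠ y 1}).ncard :=
      Nat.card_coe_set_eq _
    rw [h2, show {z : Ω | z ≠ y 0 ∧ z ≠ y 1} = ({y 0, y 1} : Set Ω)ᶜ by ext z; simp, Set.ncard_compl,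
      Set.ncard_pair hab, H.card18]
    have := Count.pair_card H hab
    omega
  obtain ⟨h, hh⟩ := hbij.2 ⟨y 2, hy 2 0 (by decide), hy 2 1 (by decide)⟩
  refine ⟨(h : X) * g, ?_⟩
  ext i
  show ((h : X) * g) • x i = y i
  rw [mul_smul]
  fin_cases i
  · show (h : X) • g • x 0 = y 0
    rw [g0]; exact h.2.1
  · show (h : X) • g • x 1 = y 1
    rw [g1]; exact h.2.2
  · exact congrArg Subtype.val hh

theorem psl_case (H : Rigid X Ω) (hX : Nat.card X = 2448) {F : Type*} [Field F] [Fintype F]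
    (hF : Fintype.card F = 17) :
    Nonempty (X ≃* Matrix.ProjectiveSpecialLinearGroup (Fin 2) F) := by
  have := H.finiteΩ
  obtain ⟨a, -, -⟩ := exists_two H
  obtain ⟨p, hp, hpa, hn⟩ := H.rigid a
  have hle : Subgroup.zpowers p ≤ MulAction.stabilizer X a :=
    Subgroup.zpowers_le.2 (MulAction.mem_stabilizer_iff.2 hpa)
  have hN : ((Subgroup.zpowers p).subgroupOf (MulAction.stabilizer X a)).Normal := by
    refine ⟨fun n hn' g => ?_⟩
    obtain ⟨i, hi⟩ := Subgroup.mem_zpowers_iff.1 (Subgroup.mem_subgroupOf.1 hn')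
    rw [Subgroup.mem_subgroupOf, Subgroup.coe_mul, Subgroup.coe_mul, Subgroup.coe_inv, ← hi,
      ← conj_zpow]
    exact Subgroup.zpow_mem _ (hn g g.2) i
  have hreg : ∀ y z : Ω, y ≠ a → z ≠ a → ∃! u : Subgroup.zpowers p, (u : X) • y = z := by
    intro y z hy hz
    obtain ⟨i, hi⟩ := H.cycle hp hpa hy hz
    refine ⟨⟨p ^ i, Subgroup.mem_zpowers_iff.2 ⟨i, rfl⟩⟩, hi, ?_⟩
    rintro ⟨w, hw⟩ hwy
    obtain ⟨j, rfl⟩ := Subgroup.mem_zpowers_iff.1 hw
    have hd : p ^ (-i + j) • y = y := by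
      rw [zpow_add, mul_smul, show p ^ j • y = z from hwy, ← hi, zpow_neg, inv_smul_smul]
    obtain ⟨k, hk⟩ := H.pow_fix hp hpa hy hd
    refine Subtype.ext (show p ^ j = p ^ i from ?_)
    rw [show j = i + 17 * k by omega, zpow_add, zpow_mul, show (17 : ℤ) = ((17 : ℕ) : ℤ) from rfl,
      zpow_natCast, ← hp, pow_orderOf_eq_one, one_zpow, mul_one]
  rcases Cfsg.Agent.S0731.result (zassenhaus H) a (Subgroup.zpowers p) hle hN inferInstance hreg with
    ⟨h3, -⟩ | ⟨K, hK, hK', hchar, ⟨φ⟩⟩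
  · exact absurd h3 (not_three H hX)
  have hodd : Odd (Fintype.card K) :=
    Nat.odd_iff.2 (FiniteField.odd_card_of_char_ne_two hchar)
  have hc := Cfsg.Agent.Lib.Linear.two_mul_card_PSL_two_of_odd (F := K) hodd
  rw [← Nat.card_congr φ.toEquiv, hX] at hc
  have hK17 := eq_seventeen hc.symm
  obtain ⟨ψ⟩ := Cfsg.Agent.Lib.Linear.nonempty_pslCongr (ι := Fin 2)
    (FiniteField.ringEquivOfCardEq (hK17.trans hF.symm) : K ≃+* F)
  exact ⟨φ.trans ψ⟩

theorem pgl_case (H : Rigid X Ω) (hX : Nat.card X = 4896) {F : Type*} [Field F] [Fintype F]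
    (hF : Fintype.card F = 17) :
    Nonempty (X ≃* (GL (Fin 2) F ⧸ Subgroup.center (GL (Fin 2) F))) := by
  classical
  have := H.finiteΩ
  have := Fintype.ofFinite Ω
  set π := MulAction.toPermHom X Ω with hπ
  have h3 : MulAction.IsMultiplyPretransitive π.range Ω 3 := by
    refine ⟨fun x y => ?_⟩
    obtain ⟨g, hg⟩ := three_trans H hX x y
    exact ⟨⟨π g, g, rfl⟩, hg⟩
  have hsharp : ∀ t : Fin 3 ↪ Ω, MulAction.stabilizer π.range t = ⊥ := by
    intro t
    refine (Subgroup.eq_bot_iff_forall _).2 ?_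
    rintro ⟨_, g, rfl⟩ hg
    have hfix : ∀ i, g • t i = t i := fun i => congrArg (fun e : Fin 3 ↪ Ω => e i) hg
    have hne : ∀ i j, i ≠ j → t i ≠ t j := fun i j h e => h (t.injective e)
    have := H.three (hne 0 1 (by decide)) (hne 0 2 (by decide)) (hne 1 2 (by decide))
      (hfix 0) (hfix 1) (hfix 2)
    exact Subtype.ext (show π g = 1 by rw [this, map_one])
  obtain ⟨K, hK, hK', hcard, ⟨φ⟩⟩ := Cfsg.Agent.S0730.result (p := 17) (f := 1) (by norm_num)
    (by norm_num) odd_one (by rw [← Nat.card_eq_fintype_card, H.card18, pow_one]) π.range h3 hsharp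
  obtain ⟨ψ⟩ := nonempty_pglCongr
    (FiniteField.ringEquivOfCardEq ((hcard.trans (pow_one 17)).trans hF.symm) : K ≃+* F)
  exact ⟨(MonoidHom.ofInjective (toPerm_injective H)).trans ((φ : π.range ≃* _).trans ψ)⟩

/-- A rigid group on 18 points is `PSL(2, 17)` or `PGL(2, 17)`. -/
theorem recognise (H : Rigid X Ω) {F : Type*} [Field F] [Fintype F]
    (hF : Fintype.card F = 17) :
    Nonempty (X ≃* Matrix.ProjectiveSpecialLinearGroup (Fin 2) F) ∨
      Nonempty (X ≃* (GL (Fin 2) F ⧸ Subgroup.center (GL (Fin 2) F))) := by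
  rcases card_cases H with h | h
  · exact Or.inl (psl_case H h hF)
  · exact Or.inr (pgl_case H h hF)

end Cfsg.Agent.Lib.SylowNumbers17.Recognise
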