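import Cfsg.Agent.Lib.SylowNumbers17.Kernel
import Cfsg.Agent.Lib.SylowNumbers17.Recognise

/-!
# Trivial centre and Sylow numbers 18, 136, 153
-/

set_option autoImplicit false
set_option linter.dupNamespace false

open scoped Pointwise

namespace Cfsg.Agent.Lib.SylowNumbers17.Main

open Rigid Kernel

universe u

theorem prime_cases {r : ℕ} (hr : r.Prime) {n : ℕ} (hn : n = 18 ∨ n = 136 ∨ n = 153)
    (hmod : n ≡ 1 [MOD r]) : r = 17 ∧ n = 18 ∨ (r = 3 ∨ r = 5) ∧ n = 136 ∨ (r = 2 ∨ r = 19) ∧ n = 153 := by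
  have hle : 1 ≤ n := by omega
  have hd : r ∣ n - 1 := (Nat.modEq_iff_dvd' hle).1 hmod.symm
  rcases hn with rfl | rfl | rfl
  · left
    exact ⟨(Nat.prime_dvd_prime_iff_eq hr (by norm_num)).1 hd, rfl⟩
  · right; left
    refine ⟨?_, rfl⟩
    rcases hr.dvd_mul.1 (show r ∣ 3 ^ 3 * 5 from hd) with h | h
    · exact Or.inl ((Nat.prime_dvd_prime_iff_eq hr Nat.prime_three).1 (hr.dvd_of_dvd_pow h))
    · exact Or.inr ((Nat.prime_dvd_prime_iff_eq hr (by norm_num)).1 h)
  · right; right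
    refine ⟨?_, rfl⟩
    rcases hr.dvd_mul.1 (show r ∣ 2 ^ 3 * 19 from hd) with h | h
    · exact Or.inl ((Nat.prime_dvd_prime_iff_eq hr Nat.prime_two).1 (hr.dvd_of_dvd_pow h))
    · exact Or.inr ((Nat.prime_dvd_prime_iff_eq hr (by norm_num)).1 h)

variable {G : Type u} [Group G] [Finite G]

theorem main (hZ : Subgroup.center G = ⊥)
    (hNS : {c : ℕ | ∃ r : ℕ, r.Prime ∧ r ∣ Nat.card G ∧ c = Nat.card (Sylow r G)} =
      ({18, 136, 153} : Set ℕ))
    {F : Type*} [Field F] [Fintype F] (hF : Fintype.card F = 17) :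
    Nonempty (G ≃* Matrix.ProjectiveSpecialLinearGroup (Fin 2) F) ∨
      Nonempty (G ≃* (GL (Fin 2) F ⧸ Subgroup.center (GL (Fin 2) F))) := by
  classical
  have hval : ∀ r : ℕ, r.Prime → r ∣ Nat.card G →
      Nat.card (Sylow r G) = 18 ∨ Nat.card (Sylow r G) = 136 ∨ Nat.card (Sylow r G) = 153 := by
    intro r hr hd
    have h : Nat.card (Sylow r G) ∈ ({18, 136, 153} : Set ℕ) := hNS ▸ ⟨r, hr, hd, rfl⟩
    simpa using h
  have hcases : ∀ r : ℕ, r.Prime → r ∣ Nat.card G →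
      r = 17 ∧ Nat.card (Sylow r G) = 18 ∨ (r = 3 ∨ r = 5) ∧ Nat.card (Sylow r G) = 136 ∨
        (r = 2 ∨ r = 19) ∧ Nat.card (Sylow r G) = 153 := by
    intro r hr hd
    have : Fact r.Prime := ⟨hr⟩
    exact prime_cases hr (hval r hr hd) (card_sylow_modEq_one r G)
  have h17d : 17 ∣ Nat.card G ∧ Nat.card (Sylow 17 G) = 18 := by
    have h : (18 : ℕ) ∈ {c : ℕ | ∃ r : ℕ, r.Prime ∧ r ∣ Nat.card G ∧ c = Nat.card (Sylow r G)} := by
      rw [hNS]; simp
    obtain ⟨r, hr, hd, hc⟩ := h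
    rcases hcases r hr hd with ⟨rfl, hn⟩ | ⟨-, hn⟩ | ⟨-, hn⟩
    · exact ⟨hd, hn⟩
    · omega
    · omega
  obtain ⟨h17G, h18⟩ := h17d
  have h17 : Fact (Nat.Prime 17) := ⟨by norm_num⟩
  have hX := rigid_range h18
  set f := (π G).rangeRestrict with hf
  have hfs : Function.Surjective f := (π G).rangeRestrict_surjective
  have hker : f.ker = (π G).ker := (π G).ker_rangeRestrict
  have hK17 : ∀ P : Sylow 17 G, f.ker ≤ Subgroup.normalizer ((P : Subgroup G) : Set G) := by
    intro P g hg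
    rw [hker, MonoidHom.mem_ker] at hg
    refine Sylow.smul_eq_iff_mem_normalizer.1 ?_
    rw [← π_smul, hg]
    rfl
  have h2 : Fact (Nat.Prime 2) := ⟨Nat.prime_two⟩
  have h3 : Fact (Nat.Prime 3) := ⟨Nat.prime_three⟩
  -- the primes 5 and 19 do not occur
  have hout : ∀ r : ℕ, r.Prime → r ∣ Nat.card G → r ≠ 5 ∧ r ≠ 19 := by
    intro r hr hd
    by_contra hor
    have hr' : r = 5 ∨ r = 19 := by omega
    have : Fact r.Prime := ⟨hr⟩
    obtain ⟨R⟩ := (inferInstance : Nonempty (Sylow r G))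
    have hRK : (R : Subgroup G) ≤ f.ker := by
      intro x hx
      obtain ⟨k, hk⟩ := R.2 ⟨x, hx⟩
      have hk' : x ^ r ^ k = 1 := congrArg Subtype.val hk
      have hdv : orderOf (f x) ∣ r ^ k :=
        orderOf_dvd_of_pow_eq_one (by rw [← map_pow, hk', map_one])
      have hdX : orderOf (f x) ∣ Nat.card (π G).range := orderOf_dvd_natCard _
      have hco : Nat.Coprime (r ^ k) (Nat.card (π G).range) := by
        refine Nat.Coprime.pow_left k ((hr.coprime_iff_not_dvd).2 fun h => ?_)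
        rcases Facts.card_cases hX with hc | hc <;> rw [hc] at h <;> rcases hr' with rfl | rfl <;>
          norm_num at h
      exact MonoidHom.mem_ker.2 (orderOf_eq_one_iff.1 (Nat.eq_one_of_dvd_coprimes hco hdv hdX))
    have hn := hcases r hr hd
    have h17n : 17 ∣ Nat.card (Sylow r G) := by
      rcases hn with ⟨_, h⟩ | ⟨_, h⟩ | ⟨_, h⟩ <;> rw [h] <;> omega
    have h16 := no_sylow_inside hK17 R hRK h17n (by omega)
    rcases hr' with rfl | rfl <;> norm_num at h16
  -- the kernel normalises every Sylow subgroup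
  have hK : ∀ s : ℕ, s.Prime → s ∣ Nat.card G → ∀ S : Sylow s G,
      f.ker ≤ Subgroup.normalizer ((S : Subgroup G) : Set G) := by
    intro s hs hd S
    obtain ⟨h5, h19⟩ := hout s hs hd
    rcases hcases s hs hd with ⟨rfl, -⟩ | ⟨h | h, hn⟩ | ⟨h | h, hn⟩
    · exact hK17 S
    · subst h
      exact normalizes_of_card_ge hfs (hn.le.trans (Facts.sylow3_ge hX)) S
    · exact absurd h h5
    · subst h
      exact normalizes_of_card_ge hfs (hn.le.trans (Facts.sylow2_eq hX).ge) S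
    · exact absurd h h19
  -- hence it is trivial
  have hbot : f.ker = ⊥ := by
    by_contra hne
    obtain ⟨r, hr, hd⟩ := Nat.exists_prime_and_dvd
      (show Nat.card f.ker ≠ 1 from fun h => hne (Subgroup.card_eq_one.1 h))
    have : Fact r.Prime := ⟨hr⟩
    have hdG : r ∣ Nat.card G := hd.trans (Subgroup.card_subgroup_dvd_card f.ker)
    obtain ⟨x, hx⟩ := exists_prime_orderOf_dvd_card' (G := f.ker) r hd
    obtain ⟨R⟩ := (inferInstance : Nonempty (Sylow r G))
    have hxR : (x : G) ∈ R := le_sylow_of_normalizes (hK r hr hdG) x.2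
      (IsPGroup.of_card (n := 1) (by rw [Nat.card_zpowers, Subgroup.orderOf_coe, hx, pow_one])) R
    have hxb : (x : G) ∈ f.ker ⊓ (R : Subgroup G) := ⟨x.2, hxR⟩
    rw [inf_eq_bot hZ hK hdG R, Subgroup.mem_bot] at hxb
    rw [← Subgroup.orderOf_coe, hxb, orderOf_one] at hx
    exact hr.one_lt.ne hx
  have e : G ≃* (π G).range := MonoidHom.ofInjective ((MonoidHom.ker_eq_bot_iff _).1 (hker ▸ hbot))
  exact (Recognise.recognise hX hF).imp (fun h => h.elim fun φ => ⟨e.trans φ⟩)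
    (fun h => h.elim fun φ => ⟨e.trans φ⟩)

end Cfsg.Agent.Lib.SylowNumbers17.Main
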