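import Mathlib

/-!
# Rigid actions on 18 points

`Rigid X Ω`: a faithful transitive action on 18 points in which every point is fixed by an element of
order 17 generating a subgroup normalised by the point stabiliser. Such a group is 2-transitive, three
points have trivial stabiliser and two-point stabilisers are cyclic of order dividing 16. Here: the
basic facts and the counting of fixed-point-free elements.
-/

set_option autoImplicit false
set_option linter.dupNamespace false

open scoped Pointwise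

namespace Cfsg.Agent.Lib.SylowNumbers17.Rigid

universe u v

/-- A faithful transitive action on 18 points with normalised elements of order 17. -/
structure Rigid (X : Type u) (Ω : Type v) [Group X] [MulAction X Ω] : Prop where
  faithful : FaithfulSMul X Ω
  card18 : Nat.card Ω = 18
  trans : MulAction.IsPretransitive X Ω
  rigid : ∀ a : Ω, ∃ p : X, orderOf p = 17 ∧ p • a = a ∧
    ∀ g : X, g • a = a → g * p * g⁻¹ ∈ Subgroup.zpowers p

variable {X : Type u} {Ω : Type v} [Group X] [MulAction X Ω]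

/-- The two-point stabiliser. -/
abbrev pairStab (X : Type u) {Ω : Type v} [Group X] [MulAction X Ω] (a b : Ω) : Subgroup X :=
  MulAction.stabilizer X a ⊓ MulAction.stabilizer X b

theorem card_units17 {n : ℕ} (hn : n = 17) : Nat.card (ZMod n)ˣ = 16 := by
  subst hn
  rw [Nat.card_eq_fintype_card]
  decide +kernel

namespace Rigid

theorem eq_one (H : Rigid X Ω) {g : X} (h : ∀ x : Ω, g • x = x) : g = 1 :=
  H.faithful.eq_of_smul_eq_smul fun x => by rw [h x, one_smul]

theorem finiteΩ (H : Rigid X Ω) : Finite Ω := Nat.finite_of_card_ne_zero (by rw [H.card18]; norm_num)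

theorem cycle [Finite X] (H : Rigid X Ω) {p : X} (hp : orderOf p = 17) {a : Ω} (ha : p • a = a)
    {b c : Ω} (hb : b ≠ a) (hc : c ≠ a) : ∃ i : ℤ, p ^ i • b = c := by
  classical
  have := H.finiteΩ
  have := Fintype.ofFinite Ω
  obtain ⟨b₀, hb₀⟩ : ∃ x : Ω, p • x ≠ x := by
    by_contra h
    push Not at h
    rw [H.eq_one h, orderOf_one] at hp
    omega
  set P := Subgroup.zpowers p with hP
  have hcardP : Nat.card P = 17 := by rw [hP, Nat.card_zpowers, hp]
  set O := MulAction.orbit P b₀ with hO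
  have hOd : Nat.card O ∣ 17 := by
    rw [← hcardP, Nat.card_congr (MulAction.orbitEquivQuotientStabilizer P b₀)]
    exact Subgroup.card_quotient_dvd_card _
  have haO : a ∉ O := by
    rintro ⟨⟨q, hq⟩, h⟩
    obtain ⟨i, rfl⟩ := Subgroup.mem_zpowers_iff.1 hq
    have h1 : p ^ i • b₀ = a := h
    have h2 : b₀ = a := by
      rw [← inv_smul_smul (p ^ i) b₀, h1, inv_smul_eq_iff]
      exact (MulAction.mem_stabilizer_iff.1
        ((MulAction.stabilizer X a).zpow_mem (MulAction.mem_stabilizer_iff.2 ha) i)).symm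
    exact hb₀ (h2 ▸ ha)
  have hO17 : Nat.card O = 17 := by
    rcases (Nat.dvd_prime (by norm_num)).1 hOd with h | h
    · exfalso
      have h1 : b₀ ∈ O := MulAction.mem_orbit_self _
      have h2 : p • b₀ ∈ O := ⟨⟨p, Subgroup.mem_zpowers p⟩, rfl⟩
      exact hb₀ (congrArg Subtype.val
        ((Nat.card_eq_one_iff_unique.1 h).1.elim (⟨_, h2⟩ : O) ⟨_, h1⟩))
    · exact h
  have hOeq : O = {x : Ω | x ≠ a} := by
    refine Set.eq_of_subset_of_ncard_le (fun x hx h => haO (h ▸ hx)) ?_ (Set.toFinite _)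
    have h1 : ({x : Ω | x ≠ a} : Set Ω) = ({a} : Set Ω)ᶜ := rfl
    rw [h1, Set.ncard_compl ({a} : Set Ω), Set.ncard_singleton, H.card18]
    rw [Nat.card_coe_set_eq] at hO17
    omega
  obtain ⟨⟨q, hq⟩, hqb⟩ : b ∈ O := hOeq.symm ▸ hb
  obtain ⟨⟨r, hr⟩, hrc⟩ : c ∈ O := hOeq.symm ▸ hc
  have hqb' : q • b₀ = b := hqb
  have hrc' : r • b₀ = c := hrc
  obtain ⟨i, rfl⟩ := Subgroup.mem_zpowers_iff.1 hq
  obtain ⟨j, rfl⟩ := Subgroup.mem_zpowers_iff.1 hr
  exact ⟨j - i, by rw [← hqb', smul_smul, ← zpow_add, sub_add_cancel, hrc']⟩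

theorem pow_fix [Finite X] (H : Rigid X Ω) {p : X} (hp : orderOf p = 17) {a b : Ω} (ha : p • a = a)
    (hb : b ≠ a) {k : ℤ} (hk : p ^ k • b = b) : (17 : ℤ) ∣ k := by
  by_contra hnd
  have hg : Int.gcd 17 k = 1 := by
    have : Int.gcd 17 k ∣ 17 := by
      have := Int.gcd_dvd_left (17 : ℤ) k
      exact_mod_cast this
    rcases (Nat.dvd_prime (by norm_num)).1 this with h | h
    · exact h
    · exact absurd (by have := Int.gcd_dvd_right (17 : ℤ) k; rw [h] at this; exact_mod_cast this) hnd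
  have hmem : p ∈ MulAction.stabilizer X b := by
    have h17 : (p : X) ^ (17 : ℤ) = 1 := by
      rw [show (17 : ℤ) = ((17 : ℕ) : ℤ) from rfl, zpow_natCast, ← hp, pow_orderOf_eq_one]
    have h1 := Int.gcd_eq_gcd_ab 17 k
    rw [hg, Nat.cast_one] at h1
    have h2 : p = (p ^ (17 : ℤ)) ^ Int.gcdA 17 k * (p ^ k) ^ Int.gcdB 17 k := by
      rw [← zpow_mul, ← zpow_mul, ← zpow_add, ← h1, zpow_one]
    rw [h2, h17, one_zpow, one_mul]
    exact Subgroup.zpow_mem _ (MulAction.mem_stabilizer_iff.2 hk) _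
  have hall : ∀ x, p • x = x := fun x => by
    by_cases hx : x = a
    · rw [hx, ha]
    obtain ⟨i, hi⟩ := H.cycle hp ha hb hx
    rw [← hi, smul_smul, (Commute.self_zpow p i).eq, ← smul_smul, MulAction.mem_stabilizer_iff.1 hmem]
  rw [H.eq_one hall, orderOf_one] at hp
  omega

theorem three [Finite X] (H : Rigid X Ω) {g : X} {a b c : Ω} (hab : a ≠ b) (hac : a ≠ c)
    (hbc : b ≠ c) (ha : g • a = a) (hb : g • b = b) (hc : g • c = c) : g = 1 := by
  obtain ⟨p, hp, hpa, hn⟩ := H.rigid a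
  obtain ⟨j, hj⟩ := Subgroup.mem_zpowers_iff.1 (hn g ha)
  obtain ⟨i, hi⟩ := H.cycle hp hpa hab.symm hac.symm
  have hi0 : ¬ (17 : ℤ) ∣ i := fun ⟨k, hk⟩ => hbc (by
    rw [← hi, hk, zpow_mul, show (17 : ℤ) = ((17 : ℕ) : ℤ) from rfl, zpow_natCast, ← hp,
      pow_orderOf_eq_one, one_zpow, one_smul])
  have hconj : ∀ k : ℤ, g • p ^ k • b = p ^ (j * k) • b := fun k => by
    have h1 : g * p ^ k * g⁻¹ = p ^ (j * k) := by rw [← conj_zpow, ← hj, ← zpow_mul]
    rw [← h1, mul_smul, mul_smul, inv_smul_eq_iff.2 hb.symm]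
  have hd : (17 : ℤ) ∣ (j - 1) * i := by
    refine H.pow_fix hp hpa hab.symm ?_
    have h1 := hconj i
    rw [hi, hc] at h1
    rw [sub_mul, one_mul, zpow_sub, (Commute.zpow_zpow (Commute.refl p) _ _).inv_right.eq, mul_smul,
      ← h1, ← hi, inv_smul_smul]
  have hj1 : (17 : ℤ) ∣ j - 1 := ((by norm_num : Prime (17 : ℤ)).dvd_or_dvd hd).resolve_right hi0
  refine H.eq_one fun x => ?_
  by_cases hx : x = a
  · rw [hx, ha]
  obtain ⟨k, rfl⟩ := H.cycle hp hpa hab.symm hx
  obtain ⟨m, hm⟩ := hj1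
  have hjm : j = 1 + 17 * m := by omega
  rw [hconj k, hjm, add_mul, one_mul, zpow_add, mul_assoc, zpow_mul p 17,
    show (17 : ℤ) = ((17 : ℕ) : ℤ) from rfl, zpow_natCast, ← hp, pow_orderOf_eq_one, one_zpow,
    mul_one]

theorem two_trans [Finite X] (H : Rigid X Ω) {a b c d : Ω} (hab : a ≠ b) (hcd : c ≠ d) :
    ∃ g : X, g • a = c ∧ g • b = d := by
  have := H.trans
  obtain ⟨g, hg⟩ := MulAction.exists_smul_eq X a c
  obtain ⟨p, hp, hpc, -⟩ := H.rigid c
  have hne : g • b ≠ c := fun h => hab (MulAction.injective g (hg.trans h.symm))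
  obtain ⟨i, hi⟩ := H.cycle hp hpc hne hcd.symm
  refine ⟨p ^ i * g, ?_, by rw [mul_smul, hi]⟩
  rw [mul_smul, hg]
  exact MulAction.mem_stabilizer_iff.1
    ((MulAction.stabilizer X c).zpow_mem (MulAction.mem_stabilizer_iff.2 hpc) i)

theorem multiply_two [Finite X] (H : Rigid X Ω) : MulAction.IsMultiplyPretransitive X Ω 2 :=
  MulAction.is_two_pretransitive_iff.2 fun h h' => H.two_trans h h'

theorem pairStab_cyclic [Finite X] (H : Rigid X Ω) {a b : Ω} (hab : a ≠ b) :
    IsCyclic (pairStab X a b) ∧ Nat.card (pairStab X a b) ∣ 16 := by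
  have : Fact (Nat.Prime 17) := ⟨by norm_num⟩
  obtain ⟨p, hp, hpa, hn⟩ := H.rigid a
  set P := Subgroup.zpowers p with hP
  have hcard : Nat.card P = 17 := by rw [hP, Nat.card_zpowers, hp]
  have hkey : ∀ g : X, g • a = a → ∀ q ∈ P, g * q * g⁻¹ ∈ P := by
    intro g hg q hq
    obtain ⟨i, rfl⟩ := Subgroup.mem_zpowers_iff.1 hq
    rw [← conj_zpow]
    exact P.zpow_mem (hn g hg) i
  have hnorm : pairStab X a b ≤ Subgroup.normalizer (P : Set X) := by
    intro g hg
    refine Subgroup.mem_normalizer_iff.2 fun q => ⟨hkey g hg.1 q, fun h => ?_⟩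
    have := hkey g⁻¹ (inv_smul_eq_iff.2 (show g • a = a from hg.1).symm) _ h
    simpa [mul_assoc] using this
  let f : pairStab X a b →* (ZMod (Nat.card P))ˣ :=
    (IsCyclic.mulAutMulEquiv P).toMonoidHom.comp
      ((Subgroup.normalizerMonoidHom P).comp (Subgroup.inclusion hnorm))
  have hf : Function.Injective f := by
    refine (injective_iff_map_eq_one f).2 fun g hg => Subtype.ext ?_
    have h1 : Subgroup.normalizerMonoidHom P (Subgroup.inclusion hnorm g) = 1 :=
      (IsCyclic.mulAutMulEquiv P).injective (hg.trans (map_one _).symm)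
    have h2 : (g : X) * p * (g : X)⁻¹ = p :=
      congrArg (fun φ : MulAut P => ((φ ⟨p, Subgroup.mem_zpowers p⟩ : P) : X)) h1
    refine H.eq_one fun x => ?_
    by_cases hx : x = a
    · rw [hx]; exact g.2.1
    obtain ⟨k, rfl⟩ := H.cycle hp hpa hab.symm hx
    show (g : X) • p ^ k • b = p ^ k • b
    rw [smul_smul, ((show Commute (g : X) p from mul_inv_eq_iff_eq_mul.1 h2).zpow_right k).eq,
      ← smul_smul, show (g : X) • b = b from g.2.2]
  have hu : IsCyclic (ZMod (Nat.card P))ˣ := by rw [hcard]; infer_instance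
  refine ⟨isCyclic_of_injective f hf, ?_⟩
  have := Subgroup.card_dvd_of_injective f hf
  rwa [card_units17 hcard] at this

end Rigid

end Cfsg.Agent.Lib.SylowNumbers17.Rigid
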